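import Cfsg.Agent.Lib.LyTwo.Shape
import Cfsg.Agent.Lib.LyTwo.Cert.Products
import Mathlib.GroupTheory.Subgroup.Simple
import Mathlib.GroupTheory.OrderOfElement

/-!
Elements of a group represented faithfully by the matrices of the Lyons group.
-/
set_option autoImplicit false
set_option maxRecDepth 100000

namespace CfsgLib.LyTwo

open Cert

/-- What is used for the subgroup of order `2 ^ 8`: a faithful representation carrying five elements to the
stored matrices, the subgroup generated by four of them being simple. -/
structure Core (G : Type*) [Group G] where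
  rho : G →* Matrix (Fin 111) (Fin 111) (ZMod 5)
  inj : Function.Injective rho
  gA : G
  gB : G
  gC : G
  gD : G
  gZ : G
  hA : rho gA = mat 111 111 (node 1)
  hB : rho gB = mat 111 111 (node 2)
  hC : rho gC = mat 111 111 (node 3)
  hD : rho gD = mat 111 111 (node 4)
  hZ : rho gZ = mat 111 111 (node 5)
  simple : IsSimpleGroup (Subgroup.closure ({gA, gB, gC, gD} : Set G))

/-- What is used of the Lyons group: a faithful representation carrying five elements to the stored matrices,
the subgroup generated by four of them being simple of order not divisible by `2 ^ 7`, the order of the group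
not divisible by `2 ^ 9`, and only one suborbit of odd length besides the trivial one. -/
structure Model (G : Type*) [Group G] extends Core G where
  innerTwo : ¬ 2 ^ 7 ∣ Nat.card (Subgroup.closure ({gA, gB, gC, gD} : Set G))
  wholeTwo : ¬ 2 ^ 9 ∣ Nat.card G
  oddOrbit : ∀ u v : G,
    u ∉ Subgroup.closure ({gA, gB, gC, gD} : Set G) → v ∉ Subgroup.closure ({gA, gB, gC, gD} : Set G) →
    2 ^ 6 ∣ Nat.card ↥(Subgroup.closure ({gA, gB, gC, gD} : Set G) ⊓
      (Subgroup.closure ({gA, gB, gC, gD} : Set G)).map (MulAut.conj u).toMonoidHom) →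
    2 ^ 6 ∣ Nat.card ↥(Subgroup.closure ({gA, gB, gC, gD} : Set G) ⊓
      (Subgroup.closure ({gA, gB, gC, gD} : Set G)).map (MulAut.conj v).toMonoidHom) →
    ∃ k ∈ Subgroup.closure ({gA, gB, gC, gD} : Set G), ∃ l ∈ Subgroup.closure ({gA, gB, gC, gD} : Set G),
      v = k * u * l

theorem one_node_ok : ((List.range 111).all fun i => (List.range 111).all fun j =>
    ent (node 0) i j % 5 == if i = j then 1 else 0) = true := by decide +kernel

theorem mat_node_zero : mat 111 111 (node 0) = 1 := by
  ext i j
  have h := List.all_eq_true.mp (List.all_eq_true.mp one_node_ok i.1 (List.mem_range.mpr i.2)) j.1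
    (List.mem_range.mpr j.2)
  rw [mat, ← ZMod.natCast_mod, beq_iff_eq.mp h, Matrix.one_apply]
  by_cases hij : i = j
  · rw [if_pos hij, if_pos (congrArg Fin.val hij), Nat.cast_one]
  · rw [if_neg hij, if_neg fun e => hij (Fin.ext e), Nat.cast_zero]

theorem steps_bound : ((steps.zipIdx 6).all fun x => decide (x.1.1 < x.2) && decide (x.1.2 < x.2)) = true := by
  decide +kernel

/-- one step of the construction of the elements -/
def pushEl {G : Type*} [Group G] (acc : List G) (p : ℕ × ℕ) : List G := acc ++ [acc.getD p.1 1 * acc.getD p.2 1]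

theorem pushEl_length {G : Type*} [Group G] : ∀ (st : List (ℕ × ℕ)) (acc : List G),
    (st.foldl pushEl acc).length = acc.length + st.length
  | [], acc => rfl
  | p :: st, acc => by
    rw [List.foldl_cons, pushEl_length st, pushEl, List.length_append, List.length_singleton, List.length_cons]
    omega

theorem pushEl_prefix {G : Type*} [Group G] : ∀ (st : List (ℕ × ℕ)) (acc : List G) {k : ℕ}, k < acc.length →
    (st.foldl pushEl acc).getD k 1 = acc.getD k 1
  | [], _, _, _ => rfl
  | p :: st, acc, k, hk => by
    rw [List.foldl_cons, pushEl_prefix st _ (by rw [pushEl, List.length_append]; omega), pushEl,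
      List.getD_append _ _ _ _ hk]

theorem pushEl_spec {G : Type*} [Group G] {M : Type*} [MulOneClass M] (f : G →* M) (target : ℕ → M) :
    ∀ (st : List (ℕ × ℕ)) (acc : List G),
    (∀ k < acc.length, f (acc.getD k 1) = target k) →
    (∀ x ∈ st.zipIdx acc.length, x.1.1 < x.2 ∧ x.1.2 < x.2 ∧ target x.1.1 * target x.1.2 = target x.2) →
    ∀ k < acc.length + st.length, f ((st.foldl pushEl acc).getD k 1) = target k
  | [], acc, h, _, k, hk => h k (by simpa using hk)
  | p :: st, acc, h, hst, k, hk => by
    rw [List.zipIdx_cons] at hst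
    obtain ⟨h1, h2, h3⟩ := hst (p, acc.length) List.mem_cons_self
    have hlen : (pushEl acc p).length = acc.length + 1 := by simp [pushEl]
    refine pushEl_spec f target st (pushEl acc p) ?_ ?_ k (by rw [hlen]; simp at hk; omega)
    · intro i hi
      rw [hlen] at hi
      rcases Nat.lt_succ_iff_lt_or_eq.mp hi with hi | rfl
      · rw [pushEl, List.getD_append _ _ _ _ hi]
        exact h i hi
      · rw [pushEl, List.getD_append_right _ _ _ _ le_rfl]
        simp only [Nat.sub_self, List.getD_cons_zero, map_mul]
        rw [h _ h1, h _ h2]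
        exact h3
    · intro x hx
      rw [hlen] at hx
      exact hst x (List.mem_cons_of_mem _ hx)

namespace Core

variable {G : Type*} [Group G] (m : Core G)

/-- the simple subgroup -/
def inner : Subgroup G := Subgroup.closure {m.gA, m.gB, m.gC, m.gD}

/-- all elements -/
def els : List G := steps.foldl pushEl [1, m.gA, m.gB, m.gC, m.gD, m.gZ]

/-- the element of a node -/
def el (k : ℕ) : G := m.els.getD k 1

/-- the number of nodes -/
def size : ℕ := 6 + steps.length

theorem rho_el {k : ℕ} (hk : k < size) : m.rho (m.el k) = mat 111 111 (node k) := by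
  refine pushEl_spec m.rho (fun k => mat 111 111 (node k)) steps [1, m.gA, m.gB, m.gC, m.gD, m.gZ] ?_ ?_ k hk
  · intro i hi
    simp only [List.length_cons, List.length_nil] at hi
    interval_cases i
    · simp [mat_node_zero]
    · simpa using m.hA
    · simpa using m.hB
    · simpa using m.hC
    · simpa using m.hD
    · simpa using m.hZ
  · intro x hx
    have h := List.all_eq_true.mp steps_bound x hx
    simp only [Bool.and_eq_true, decide_eq_true_eq] at h
    exact ⟨h.1, h.2, mulCheck_spec le_rfl (steps_ok x hx)⟩

theorem size_eq : size = 88 := rfl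

theorem el_leaf {k : ℕ} (hk : k < 6) : m.el k = [1, m.gA, m.gB, m.gC, m.gD, m.gZ].getD k 1 :=
  pushEl_prefix steps _ hk

theorem facts_bound : (facts.all fun x => decide (x.1 < size) && decide (x.2.1 < size) && decide (x.2.2 < size)) = true := by
  decide +kernel

theorem el_mul {i j k : ℕ} (h : (i, j, k) ∈ facts) : m.el i * m.el j = m.el k := by
  have hb := List.all_eq_true.mp facts_bound _ h
  simp only [Bool.and_eq_true, decide_eq_true_eq] at hb
  refine m.inj ?_
  rw [map_mul, m.rho_el hb.1.1, m.rho_el hb.1.2, m.rho_el hb.2]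
  exact mulCheck_spec le_rfl (facts_ok _ h)

theorem innerNodes_spec : ∀ (st : List (ℕ × ℕ)) (acc : List G) (bs : List Bool), acc.length = bs.length →
    (∀ k, bs.getD k false = true → acc.getD k 1 ∈ m.inner) →
    ∀ k, (st.foldl (fun b p => b ++ [b.getD p.1 false && b.getD p.2 false]) bs).getD k false = true →
      (st.foldl pushEl acc).getD k 1 ∈ m.inner
  | [], _, _, _, h, k, hk => h k hk
  | p :: st, acc, bs, hl, h, k, hk => by
    refine innerNodes_spec st (pushEl acc p) _ (by simp [pushEl, hl]) ?_ k hk
    intro i hi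
    rcases Nat.lt_or_ge i bs.length with hlt | hge
    · rw [List.getD_append _ _ _ _ hlt] at hi
      rw [pushEl, List.getD_append _ _ _ _ (hl ▸ hlt)]
      exact h i hi
    · rw [List.getD_append_right _ _ _ _ hge] at hi
      rw [pushEl, List.getD_append_right _ _ _ _ (hl ▸ hge), hl]
      rcases Nat.eq_zero_or_pos (i - bs.length) with e | e
      · rw [e, List.getD_cons_zero, Bool.and_eq_true] at hi
        rw [e, List.getD_cons_zero]
        exact m.inner.mul_mem (h _ hi.1) (h _ hi.2)
      · rw [List.getD_eq_default _ _ (by simp only [List.length_singleton]; omega)] at hi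
        exact Bool.noConfusion hi

theorem el_mem_inner {k : ℕ} (h : innerNodes.getD k false = true) : m.el k ∈ m.inner := by
  refine innerNodes_spec m steps [1, m.gA, m.gB, m.gC, m.gD, m.gZ] [true, true, true, true, true, false] rfl ?_ k h
  intro i hi
  rcases Nat.lt_or_ge i 6 with hlt | hge
  · interval_cases i
    · exact m.inner.one_mem
    · exact Subgroup.subset_closure (Set.mem_insert _ _)
    · exact Subgroup.subset_closure (Or.inr (Or.inl rfl))
    · exact Subgroup.subset_closure (Or.inr (Or.inr (Or.inl rfl)))
    · exact Subgroup.subset_closure (Or.inr (Or.inr (Or.inr rfl)))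
    · exact Bool.noConfusion hi
  · rw [List.getD_eq_default _ _ (by simpa using hge)] at hi
    exact Bool.noConfusion hi

/-! ### The leading block -/

/-- the leading block -/
def cor (g : G) : Matrix (Fin 7) (Fin 7) (ZMod 5) :=
  fun i j => m.rho g (i.castLE (by norm_num)) (j.castLE (by norm_num))

/-- the elements keeping the first seven coordinates -/
def Keeps (g : G) : Prop := ∀ i j : Fin 111, 7 ≤ i.1 → j.1 < 7 → m.rho g i j = 0

theorem cor_mul {x y : G} (hy : m.Keeps y) : m.cor (x * y) = m.cor x * m.cor y := by
  ext i j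
  simp only [cor, map_mul, Matrix.mul_apply]
  let ι : Fin 7 ↪ Fin 111 := Fin.castLEEmb (by norm_num)
  rw [← Finset.sum_subset (Finset.subset_univ (Finset.univ.map ι))]
  · rw [Finset.sum_map]
    rfl
  · intro k _ hk
    have h7 : 7 ≤ k.1 := by
      by_contra hlt
      exact hk (Finset.mem_map.mpr ⟨⟨k.1, by omega⟩, Finset.mem_univ _, Fin.ext rfl⟩)
    rw [hy k _ h7 (by simp), mul_zero]

theorem keeps_mul {x y : G} (hx : m.Keeps x) (hy : m.Keeps y) : m.Keeps (x * y) := by
  intro i j hi hj
  rw [map_mul, Matrix.mul_apply]
  refine Finset.sum_eq_zero fun k _ => ?_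
  rcases Nat.lt_or_ge k.1 7 with hk | hk
  · rw [hx i k hi hk, zero_mul]
  · rw [hy k j hk hj, mul_zero]

theorem keeps_one : m.Keeps 1 := by
  intro i j hi hj
  rw [map_one, Matrix.one_apply, if_neg (fun e => by subst e; omega)]

theorem ent_mod (L : List ℕ) (i j : ℕ) (hj : j < 7) :
    L.getD i 0 % 8 ^ 7 / 8 ^ j % 8 = ent L i j := by
  rw [ent, show (8 : ℕ) ^ 7 = 8 ^ j * 8 ^ (7 - j) by rw [← pow_add]; congr 1; omega,
    Nat.mod_mul_right_div_self, Nat.mod_mod_of_dvd _ (dvd_pow_self 8 (by omega))]

theorem keeps_el {k : ℕ} (hk : k < size) (hz : lowZero (node k) = true) : m.Keeps (m.el k) := by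
  intro i j hi hj
  rw [m.rho_el hk, mat]
  rcases Nat.lt_or_ge i.1 (node k).length with hl | hl
  · have hmem : (node k).getD i.1 0 ∈ (node k).drop 7 := by
      rw [List.getD_eq_getElem _ _ hl, List.mem_iff_getElem]
      exact ⟨i.1 - 7, by simp; omega, by simp [show 7 + (i.1 - 7) = i.1 by omega]⟩
    have h0 := beq_iff_eq.mp (List.all_eq_true.mp hz _ hmem)
    rw [← ent_mod _ _ _ hj, h0]
    simp
  · rw [ent, List.getD_eq_default _ _ hl]
    simp

theorem keeps_inner [Finite G] {g : G} (hg : g ∈ m.inner) : m.Keeps g := by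
  have h := low_ok
  simp only [List.all_cons, List.all_nil, Bool.and_true, Bool.and_eq_true] at h
  induction hg using Subgroup.closure_induction with
  | mem x hx =>
    have hk : ∀ n, n < 6 → lowZero (node n) = true → m.Keeps ([1, m.gA, m.gB, m.gC, m.gD, m.gZ].getD n 1) :=
      fun n hn hz => m.el_leaf hn ▸ m.keeps_el (by rw [size_eq]; omega) hz
    rcases hx with rfl | rfl | rfl | rfl
    · exact hk 1 (by norm_num) h.2.1
    · exact hk 2 (by norm_num) h.2.2.1
    · exact hk 3 (by norm_num) h.2.2.2.1
    · exact hk 4 (by norm_num) h.2.2.2.2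
  | one => exact m.keeps_one
  | mul x y _ _ hx hy => exact m.keeps_mul hx hy
  | inv x _ hx =>
    have e : x⁻¹ = x ^ (orderOf x - 1) := by
      rw [inv_eq_iff_mul_eq_one, ← pow_succ', Nat.sub_add_cancel (orderOf_pos x), pow_orderOf_eq_one]
    rw [e]
    generalize orderOf x - 1 = n
    induction n with
    | zero => rw [pow_zero]; exact m.keeps_one
    | succ n ih => rw [pow_succ]; exact m.keeps_mul ih hx

/-- the leading block as a homomorphism on the simple subgroup -/
def corHom [Finite G] : m.inner →* Matrix (Fin 7) (Fin 7) (ZMod 5) where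
  toFun g := m.cor g.1
  map_one' := by
    ext i j
    simp only [cor, OneMemClass.coe_one, map_one, Matrix.one_apply, Fin.castLE_inj]
  map_mul' g h := m.cor_mul (m.keeps_inner h.2)

theorem cor_el {k : ℕ} (hk : k < size) {L : List ℕ}
    (hL : Presented.listEq (topBlock (node k)) L = true) : m.cor (m.el k) = mat 7 7 L := by
  have e := Presented.listEq_eq hL
  ext i j
  simp only [cor, m.rho_el hk, mat, Fin.val_castLE]
  congr 1
  subst e
  have hg : (topBlock (node k)).getD i.1 0 = (node k).getD i.1 0 % 8 ^ 7 := by
    rcases Nat.lt_or_ge i.1 (node k).length with hl | hl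
    · rw [topBlock, List.getD_eq_getElem _ _ (by simp; omega), List.getD_eq_getElem _ _ hl]
      simp
    · rw [topBlock, List.getD_eq_default _ _ hl, List.getD_eq_default _ _ (by simp; omega)]
      simp
  rw [← ent_mod (node k) _ _ j.2, ← hg]
  rfl

attribute [irreducible] el

end Core

end CfsgLib.LyTwo
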