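import Cfsg.Agent.Lib.LyTwo.Shape
import Cfsg.Agent.Lib.LyTwo.Cert.CommData
import Mathlib.Algebra.BigOperators.Fin

/-!
A matrix of odd order commuting with the group of order 64 in seven dimensions is trivial.
-/
set_option autoImplicit false
set_option maxRecDepth 100000

namespace CfsgLib.LyTwo

open Cert

/-- the coefficient of the unknown `p` in the equation `e` -/
def eqCoeff (e p : ℕ) : ℕ :=
  (if p % 7 = e % 7 then ent (smallGen (e / 49)) (e / 7 % 7) (p / 7) else 0) +
    4 * (if p / 7 = e / 7 % 7 then ent (smallGen (e / 49)) (p % 7) (e % 7) else 0)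

/-- the coefficient of the free unknown `p` in the entry `a` -/
def projCoeff (a p : ℕ) : ℕ :=
  (if p = 48 then (projC.getD a (0, 0, 0)).1 else 0) + (if p = 32 then (projC.getD a (0, 0, 0)).2.1 else 0) +
    (if p = 25 then (projC.getD a (0, 0, 0)).2.2 else 0)

/-- the general commuting matrix -/
def freeMat (f g u : ℕ) : List ℕ :=
  (List.range 7).map fun i => ((List.range 7).map fun j =>
    ((projC.getD (7 * i + j) (0, 0, 0)).1 * f + (projC.getD (7 * i + j) (0, 0, 0)).2.1 * g +
      (projC.getD (7 * i + j) (0, 0, 0)).2.2 * u) % 5 * 8 ^ j).sum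

/-- the product computed modulo five, used only as data for checks -/
def mulData (A B : List ℕ) : List ℕ :=
  (List.range 7).map fun i => ((List.range 7).map fun j =>
    ((List.range 7).map fun k => ent A i k * ent B k j).sum % 5 * 8 ^ j).sum

theorem comm_ok : ((List.range 49).all fun a => (List.range 49).all fun p =>
    (((commC.getD a []).map fun q => q.2 * eqCoeff q.1 p).sum % 5 ==
      ((if p = a then 1 else 0) + 4 * projCoeff a p) % 5)) = true := by decide +kernel

theorem comm_bound : ((List.range 49).all fun a => (commC.getD a []).all fun q => decide (q.1 < 196)) = true := by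
  decide +kernel

theorem freeMat_ent : ((List.range 5).all fun f => (List.range 5).all fun g => (List.range 5).all fun u =>
    (List.range 7).all fun i => (List.range 7).all fun j => (ent (freeMat f g u) i j % 5 ==
      ((projC.getD (7 * i + j) (0, 0, 0)).1 * f + (projC.getD (7 * i + j) (0, 0, 0)).2.1 * g +
        (projC.getD (7 * i + j) (0, 0, 0)).2.2 * u) % 5)) = true := by decide +kernel

theorem fifth_ok : ((List.range 5).all fun f => (List.range 5).all fun g => (List.range 5).all fun u =>
    let M := freeMat f g u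
    let S := mulData M M
    let F := mulData S S
    mulCheck 7 7 M M S && mulCheck 7 7 S S F && mulCheck 7 7 F M M) = true := by decide +kernel

theorem eq_proj (X : Matrix (Fin 7) (Fin 7) (ZMod 5))
    (h : ∀ j < 4, mat 7 7 (smallGen j) * X = X * mat 7 7 (smallGen j)) (a b : Fin 7) :
    X a b = ∑ p : Fin 49, (projCoeff (7 * a.1 + b.1) p : ZMod 5) *
      X ⟨p.1 / 7, by omega⟩ ⟨p.1 % 7, Nat.mod_lt _ (by norm_num)⟩ := by
  set x : Fin 49 → ZMod 5 := fun p => X ⟨p.1 / 7, by omega⟩ ⟨p.1 % 7, Nat.mod_lt _ (by norm_num)⟩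
  have hrow : ∀ e < 196, ∑ p : Fin 49, (eqCoeff e p : ZMod 5) * x p = 0 := by
    intro e he
    set i : Fin 7 := ⟨e / 7 % 7, Nat.mod_lt _ (by norm_num)⟩ with hi
    set k : Fin 7 := ⟨e % 7, Nat.mod_lt _ (by norm_num)⟩ with hk
    have hh := congrFun (congrFun (h (e / 49) (by omega)) i) k
    rw [Matrix.mul_apply, Matrix.mul_apply] at hh
    rw [← Equiv.sum_comp (finProdFinEquiv (m := 7) (n := 7)), Fintype.sum_prod_type]
    have hx : ∀ l m : Fin 7, x (finProdFinEquiv (l, m)) = X l m := by
      intro l m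
      show X _ _ = X l m
      congr 1 <;> apply Fin.ext <;> simp only [finProdFinEquiv_apply_val] <;> omega
    have hc : ∀ l m : Fin 7, (eqCoeff e (finProdFinEquiv (l, m) : Fin 49) : ZMod 5) =
        (if m = k then mat 7 7 (smallGen (e / 49)) i l else 0) -
          (if l = i then mat 7 7 (smallGen (e / 49)) m k else 0) := by
      intro l m
      have e1 : ((finProdFinEquiv (l, m) : Fin 49) : ℕ) / 7 = l := by
        simp only [finProdFinEquiv_apply_val]; omega
      have e2 : ((finProdFinEquiv (l, m) : Fin 49) : ℕ) % 7 = m := by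
        simp only [finProdFinEquiv_apply_val]; omega
      have h4 : ((4 : ℕ) : ZMod 5) = -1 := by decide
      simp only [eqCoeff, e1, e2, Fin.ext_iff, hi, hk, Nat.cast_add, Nat.cast_mul, h4]
      split_ifs <;> simp [mat, sub_eq_add_neg]
    simp only [hx, hc, sub_mul, Finset.sum_sub_distrib, ite_mul, zero_mul]
    rw [show (∑ l : Fin 7, ∑ m : Fin 7, if m = k then mat 7 7 (smallGen (e / 49)) i l * X l m else 0) =
      ∑ l, mat 7 7 (smallGen (e / 49)) i l * X l k from Finset.sum_congr rfl fun l _ => by simp]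
    rw [Finset.sum_comm (f := fun l m => if l = i then mat 7 7 (smallGen (e / 49)) m k * X l m else 0)]
    simp only [Finset.sum_ite_eq', Finset.mem_univ, if_true]
    rw [hh, sub_eq_zero]
    exact Finset.sum_congr rfl fun m _ => mul_comm _ _
  set A := 7 * a.1 + b.1 with hA
  have hc := List.all_eq_true.mp comm_ok A (List.mem_range.mpr (by omega))
  rw [List.all_eq_true] at hc
  have hb := List.all_eq_true.mp (List.all_eq_true.mp comm_bound A (List.mem_range.mpr (by omega)))
  have hzero : ∀ L : List (ℕ × ℕ), (∀ q ∈ L, q.1 < 196) →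
      ∑ p : Fin 49, (((L.map fun q => q.2 * eqCoeff q.1 p).sum : ℕ) : ZMod 5) * x p = 0 := by
    intro L hL
    induction L with
    | nil => simp
    | cons q L ih =>
      simp only [List.map_cons, List.sum_cons, Nat.cast_add, Nat.cast_mul, add_mul, Finset.sum_add_distrib,
        mul_assoc, ← Finset.mul_sum]
      rw [hrow q.1 (hL q List.mem_cons_self), ih fun r hr => hL r (List.mem_cons_of_mem _ hr)]
      simp
  have h0 := hzero (commC.getD A []) fun q hq => of_decide_eq_true (hb q hq)
  have hterm : ∀ p : Fin 49, ((((commC.getD A []).map fun q => q.2 * eqCoeff q.1 p).sum : ℕ) : ZMod 5) =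
      (if p.1 = A then 1 else 0) - (projCoeff A p : ZMod 5) := by
    intro p
    rw [← ZMod.natCast_mod, beq_iff_eq.mp (hc p.1 (List.mem_range.mpr p.2)), ZMod.natCast_mod]
    push_cast
    rw [show (4 : ZMod 5) = -1 from by decide]
    ring
  simp only [hterm, sub_mul, Finset.sum_sub_distrib, sub_eq_zero, ite_mul, one_mul, zero_mul] at h0
  rw [← h0, Finset.sum_eq_single (⟨A, by omega⟩ : Fin 49)]
  · rw [if_pos rfl]
    show X a b = X _ _
    congr 1 <;> apply Fin.ext <;> simp only [hA] <;> omega
  · intro p _ hp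
    rw [if_neg fun e => hp (Fin.ext e)]
  · simp

/-- A matrix of odd order commuting with the four generators is the identity. -/
theorem commutant_trivial (X : Matrix (Fin 7) (Fin 7) (ZMod 5))
    (h : ∀ j < 4, mat 7 7 (smallGen j) * X = X * mat 7 7 (smallGen j)) {q : ℕ} (hq : Odd q) (hX : X ^ q = 1) :
    X = 1 := by
  have hm : X = mat 7 7 (freeMat (X 6 6).val (X 4 4).val (X 3 4).val) := by
    ext a b
    have he := List.all_eq_true.mp (List.all_eq_true.mp (List.all_eq_true.mp (List.all_eq_true.mp
      (List.all_eq_true.mp freeMat_ent _ (List.mem_range.mpr (X 6 6).val_lt)) _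
      (List.mem_range.mpr (X 4 4).val_lt)) _ (List.mem_range.mpr (X 3 4).val_lt)) a.1 (List.mem_range.mpr a.2))
      b.1 (List.mem_range.mpr b.2)
    rw [mat, ← ZMod.natCast_mod (ent _ _ _), beq_iff_eq.mp he, ZMod.natCast_mod]
    rw [eq_proj X h a b]
    have hsingle : ∀ (k : ℕ) (hk : k < 49) (c : ZMod 5),
        (∑ p : Fin 49, if p.1 = k then c * X ⟨p.1 / 7, by omega⟩ ⟨p.1 % 7, Nat.mod_lt _ (by norm_num)⟩ else 0) =
          c * X ⟨k / 7, by omega⟩ ⟨k % 7, Nat.mod_lt _ (by norm_num)⟩ := by
      intro k hk c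
      rw [Finset.sum_eq_single (⟨k, hk⟩ : Fin 49) (fun p _ hp => if_neg fun e => hp (Fin.ext e)) (by simp),
        if_pos rfl]
    simp only [projCoeff]
    generalize projC.getD (7 * a.1 + b.1) (0, 0, 0) = P
    simp only [Nat.cast_add, Nat.cast_ite, Nat.cast_zero, add_mul, Finset.sum_add_distrib, ite_mul, zero_mul]
    rw [hsingle 48 (by norm_num), hsingle 32 (by norm_num), hsingle 25 (by norm_num)]
    rw [Nat.cast_mul, Nat.cast_mul, Nat.cast_mul, ZMod.natCast_zmod_val, ZMod.natCast_zmod_val,
      ZMod.natCast_zmod_val]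
    congr 2
  have h5 := List.all_eq_true.mp (List.all_eq_true.mp (List.all_eq_true.mp fifth_ok _
    (List.mem_range.mpr (X 6 6).val_lt)) _ (List.mem_range.mpr (X 4 4).val_lt)) _
    (List.mem_range.mpr (X 3 4).val_lt)
  simp only [Bool.and_eq_true] at h5
  have e1 := mulCheck_spec (by norm_num) h5.1.1
  have e2 := mulCheck_spec (by norm_num) h5.1.2
  have e3 := mulCheck_spec (by norm_num) h5.2
  rw [← hm] at e1 e3
  have hX5 : X ^ 5 = X := by
    rw [← e2, ← e1] at e3
    calc X ^ 5 = X * X * (X * X) * X := by simp only [pow_succ, pow_zero, one_mul, mul_assoc]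
      _ = X := e3
  have hu : IsUnit X := IsUnit.of_pow_eq_one hX hq.pos.ne'
  have h4 : X ^ 4 = 1 := hu.mul_left_cancel (by rw [← pow_succ', mul_one]; exact hX5)
  have hg : X ^ Nat.gcd 4 q = 1 := pow_gcd_eq_one.mpr ⟨h4, hX⟩
  have hq4 : Nat.gcd 4 q = 1 := Nat.Coprime.pow_left 2 (Nat.coprime_two_left.mpr hq)
  rwa [hq4, pow_one] at hg

end CfsgLib.LyTwo
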