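import Cfsg.Agent.Lib.LyTwo.WholeGroup
import Cfsg.Agent.Lib.LyTwo.Commutant

/-!
Elements of odd prime order normalising the groups of order 64 and 256 centralise them.
-/
set_option autoImplicit false
set_option maxRecDepth 100000

namespace CfsgLib.LyTwo

open Cert

/-- the parent and the last generator of a code -/
def parent1 (c : ℕ) : ℕ × ℕ :=
  if c % 128 = 0 then (0, 5) else if c % 64 = 0 then (c - 64, 4)
  else (c - c % 64 + (parT.getD (c % 64) (0, 0)).1, (parT.getD (c % 64) (0, 0)).2)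

/-- the checks on the parities of exponents of the group of order 256 -/
def parity1 : Bool :=
  (List.range 256).all fun c => (c == 0) ||
    (decide ((parent1 c).1 < c) && decide ((parent1 c).2 < gen1.length) &&
      mulC (parent1 c).1 (gen1.getD (parent1 c).2 0) == c &&
      parityC c == Nat.xor (parityC (parent1 c).1) (2 ^ (parent1 c).2))

theorem dotBits_flip (v a j : ℕ) (hj : j < 6) :
    dotBits v (Nat.xor a (2 ^ j)) = xor (dotBits v a) (v.testBit j) := by
  show dotBits v (a ^^^ 2 ^ j) = _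
  simp only [dotBits, List.range_succ, List.range_zero, List.nil_append, List.cons_append, List.foldl_cons,
    List.foldl_nil, Nat.testBit_xor, Nat.testBit_two_pow]
  interval_cases j <;>
    (generalize v.testBit 0 = v0, v.testBit 1 = v1, v.testBit 2 = v2, v.testBit 3 = v3, v.testBit 4 = v4,
      v.testBit 5 = v5, a.testBit 0 = a0, a.testBit 1 = a1, a.testBit 2 = a2, a.testBit 3 = a3, a.testBit 4 = a4,
      a.testBit 5 = a5
     simp
     cases v0 <;> cases v1 <;> cases v2 <;> cases v3 <;> cases v4 <;> cases v5 <;> simp)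

theorem countP_perm {n : ℕ} (σ : Equiv.Perm (Fin n)) (f g : ℕ → Bool) (h : ∀ c : Fin n, g c.1 = f (σ c).1) :
    (List.range n).countP g = (List.range n).countP f := by
  rw [← List.map_coe_finRange_eq_range, List.countP_map, List.countP_map]
  have hfun : (g ∘ fun c : Fin n => c.1) = (f ∘ fun c : Fin n => c.1) ∘ σ := funext fun c => h c
  rw [hfun, ← List.countP_map]
  exact (Equiv.Perm.map_finRange_perm σ).countP_eq _

section transport

variable {G : Type*} [Group G] {P : Subgroup G} {n : ℕ} {mul : ℕ → ℕ → ℕ} {e : ℕ → G}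

theorem Coded.sigma_mul (C : Coded P n mul e) {h : G} {σ : Equiv.Perm (Fin n)}
    (hσ : ∀ c : Fin n, e (σ c).1 = h * e c.1 * h⁻¹) (a b : Fin n) :
    (σ ⟨mul a.1 b.1, C.mul_lt _ a.2 _ b.2⟩).1 = mul (σ a).1 (σ b).1 := by
  refine C.inj _ (σ _).2 _ (C.mul_lt _ (σ a).2 _ (σ b).2) ?_
  rw [hσ, C.e_mul _ (σ a).2 _ (σ b).2, hσ, hσ, C.e_mul _ a.2 _ b.2]
  group

theorem Coded.sigma_zero (C : Coded P n mul e) {h : G} {σ : Equiv.Perm (Fin n)}
    (hσ : ∀ c : Fin n, e (σ c).1 = h * e c.1 * h⁻¹) : (σ ⟨0, C.zero_lt⟩).1 = 0 := by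
  refine C.inj _ (σ _).2 _ C.zero_lt ?_
  rw [hσ, C.e_zero]
  simp

theorem Coded.comm_iff (C : Coded P n mul e) (a b : Fin n) :
    mul a.1 b.1 = mul b.1 a.1 ↔ e a.1 * e b.1 = e b.1 * e a.1 := by
  rw [← C.e_mul _ a.2 _ b.2, ← C.e_mul _ b.2 _ a.2]
  exact ⟨congrArg e, C.inj _ (C.mul_lt _ a.2 _ b.2) _ (C.mul_lt _ b.2 _ a.2)⟩

/-- A central code other than zero is fixed when it is the only one. -/
theorem Coded.sigma_central (C : Coded P n mul e) {h : G} {σ : Equiv.Perm (Fin n)}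
    (hσ : ∀ c : Fin n, e (σ c).1 = h * e c.1 * h⁻¹) (t : Fin n) (ht0 : t.1 ≠ 0)
    (ht : ∀ y : Fin n, mul t.1 y.1 = mul y.1 t.1)
    (huniq : ∀ c : Fin n, (∀ y : Fin n, mul c.1 y.1 = mul y.1 c.1) → c.1 = 0 ∨ c.1 = t.1) : σ t = t := by
  refine Fin.ext ((huniq (σ t) fun y => ?_).resolve_left fun h0 => ht0 ?_)
  · obtain ⟨x, rfl⟩ := σ.surjective y
    rw [← C.sigma_mul hσ, ← C.sigma_mul hσ]
    congr 2
    exact Fin.ext (ht x)
  · have : σ t = σ ⟨0, C.zero_lt⟩ := Fin.ext (by rw [h0, C.sigma_zero hσ])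
    exact congrArg Fin.val (σ.injective this)

theorem Coded.beq_sigma (σ : Equiv.Perm (Fin n)) (x k : Fin n) (hk : σ k = k) :
    ((σ x).1 == k.1) = (x.1 == k.1) := by
  rw [Bool.eq_iff_iff, beq_iff_eq, beq_iff_eq]
  conv_lhs => rw [← hk]
  exact ⟨fun e => congrArg Fin.val (σ.injective (Fin.ext e)), fun e => by rw [Fin.ext e]⟩

end transport

theorem gen0_lt : ∀ g ∈ gen0, g < 64 := by decide

theorem gen1_lt : ∀ g ∈ gen1, g < 256 := by decide

theorem parity1_ok : parity1 = true := by decide +kernel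

namespace Core

variable {G : Type*} [Group G] (m : Core G)

theorem tI_lt : tI < 64 := by decide

variable [Finite G]

theorem centre0 (c : Fin 64) (hc : ∀ y : Fin 64, mul0 c.1 y.1 = mul0 y.1 c.1) : c.1 = 0 ∨ c.1 = tI := by
  have h := List.all_eq_true.mp center0_ok c.1 (List.mem_range.mpr c.2)
  simp only [Bool.or_eq_true, beq_iff_eq, List.any_eq_true] at h
  rcases h with (h | h) | ⟨g, hg, hne⟩
  · exact Or.inl h
  · exact Or.inr h
  · have hg64 : g < 64 := gen0_lt g hg
    have e := hc ⟨g, hg64⟩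
    simp only at e
    rw [e] at hne
    simp at hne

omit [Finite G] in
theorem tI_central : ∀ y < 64, mul0 tI y = mul0 y tI := by decide +kernel

omit [Finite G] in
theorem tI_central' : ∀ y < 256, mulC tI y = mulC y tI := by decide +kernel

theorem centre1 (c : Fin 256) (hc : ∀ y : Fin 256, mulC c.1 y.1 = mulC y.1 c.1) : c.1 = 0 ∨ c.1 = tI := by
  have h := List.all_eq_true.mp center1_ok c.1 (List.mem_range.mpr c.2)
  simp only [Bool.or_eq_true, beq_iff_eq, List.any_eq_true] at h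
  rcases h with (h | h) | ⟨g, hg, hne⟩
  · exact Or.inl h
  · exact Or.inr h
  · have hg256 : g < 256 := gen1_lt g hg
    have e := hc ⟨g, hg256⟩
    simp only at e
    rw [e] at hne
    simp at hne

/-- An element of odd prime order normalising the group of order 64 centralises it. -/
theorem commute_P0 (h : G) (hn : ∀ y ∈ m.P0, h * y * h⁻¹ ∈ m.P0) {q : ℕ} (hq : q.Prime) (hq2 : q ≠ 2)
    (hhq : h ^ q = 1) : ∀ y ∈ m.P0, h * y = y * h := by
  have C := m.P0_coded
  obtain ⟨σ, hσ, hpow⟩ := C.exists_perm h hn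
  have hσ0 : σ ⟨0, C.zero_lt⟩ = ⟨0, C.zero_lt⟩ := Fin.ext (C.sigma_zero hσ)
  have hσt : σ ⟨tI, tI_lt⟩ = ⟨tI, tI_lt⟩ :=
    C.sigma_central hσ ⟨tI, tI_lt⟩ (by decide) (fun y => tI_central y.1 y.2) (fun c hc => centre0 c hc)
  have hmul : ∀ a b : Fin 64, (σ ⟨mul0 a.1 b.1, C.mul_lt _ a.2 _ b.2⟩).1 = mul0 (σ a).1 (σ b).1 := C.sigma_mul hσ
  have hcent : ∀ c : Fin 64, centNum (σ c).1 = centNum c.1 := by
    intro c
    rw [centNum, centNum]
    refine (countP_perm σ _ _ fun y => ?_).symm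
    rw [← hmul, ← hmul, Bool.eq_iff_iff, beq_iff_eq, beq_iff_eq]
    exact ⟨fun e => by congr 2; exact Fin.ext e, fun e => congrArg Fin.val (σ.injective (Fin.ext e))⟩
  refine C.commute_of_classes (k := 6) rfl h σ hσ hq hq2 (hpow q hhq) parityC gen0 preds0
    (by decide) (by decide) ?_ generates0_ok ?_ ?_
  · intro c hc
    have hp := parity0_ok
    simp only [Bool.and_eq_true, Bool.or_eq_true, beq_iff_eq, List.all_eq_true, List.mem_range,
      decide_eq_true_eq] at hp
    by_cases hc0 : c = 0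
    · exact Or.inl hc0
    · obtain ⟨h1, h2, h3⟩ := parT_spec hc hc0
      refine Or.inr ⟨_, h1, _, h2, ?_, (hp.2 c hc).resolve_left hc0⟩
      have hg := List.all_eq_true.mp gen0_ok _ (List.mem_range.mpr h2)
      rw [beq_iff_eq] at hg
      refine C.inj _ (mul0_lt (h1.trans hc) (hg ▸ stepC_lt (by norm_num) h2)) _ hc ?_
      rw [hg, m.e0_mul (h1.trans hc) (stepC_lt (by norm_num) h2), ← m.e0_step (by norm_num) h2, m.e0_zero, one_mul,
        ← m.e0_par hc hc0]
  · intro p hp
    have hm : (List.range 64).countP p ∈ (preds0.map fun p => (List.range 64).countP p) := List.mem_map_of_mem hp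
    rw [count0_ok] at hm
    exact ⟨3, by simpa using hm⟩
  · intro p hp c
    simp only [preds0, List.mem_cons, List.not_mem_nil, or_false] at hp
    have e0 := fun x => Coded.beq_sigma σ x ⟨0, C.zero_lt⟩ hσ0
    have et := fun x => Coded.beq_sigma σ x ⟨tI, tI_lt⟩ hσt
    simp only at e0 et
    have hsq : ∀ a : Fin 64, mul0 (σ a).1 (σ a).1 = (σ ⟨mul0 a.1 a.1, C.mul_lt _ a.2 _ a.2⟩).1 :=
      fun a => (hmul a a).symm
    rcases hp with rfl | rfl | rfl
    · simp only [hsq c]
      rw [hsq, e0, e0, et]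
    · simp only [hsq c, hcent c, et]
    · simp only [hsq c, hcent c, e0]

/-- An element of odd prime order normalising the group of order 256 centralises it. -/
theorem commute_P (h : G) (hn : ∀ y ∈ m.P, h * y * h⁻¹ ∈ m.P) {q : ℕ} (hq : q.Prime) (hq2 : q ≠ 2)
    (hhq : h ^ q = 1) : ∀ y ∈ m.P, h * y = y * h := by
  have C := m.P_coded
  obtain ⟨σ, hσ, hpow⟩ := C.exists_perm h hn
  have htl : tI < 256 := tI_lt.trans (by norm_num)
  have hsl : sI < 256 := by decide
  have hsl' : sI' < 256 := by decide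
  have hσ0 : σ ⟨0, C.zero_lt⟩ = ⟨0, C.zero_lt⟩ := Fin.ext (C.sigma_zero hσ)
  have hσt : σ ⟨tI, htl⟩ = ⟨tI, htl⟩ :=
    C.sigma_central hσ ⟨tI, htl⟩ (by show tI ≠ 0; decide) (fun y => tI_central' y.1 y.2) (fun c hc => centre1 c hc)
  have hmul : ∀ a b : Fin 256, (σ ⟨mulC a.1 b.1, C.mul_lt _ a.2 _ b.2⟩).1 = mulC (σ a).1 (σ b).1 := C.sigma_mul hσ
  have hp := pair_ok
  simp only [Bool.and_eq_true, Bool.or_eq_true, List.all_eq_true, List.mem_range, beq_iff_eq, List.any_eq_true,
    Bool.not_eq_true'] at hp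
  obtain ⟨hp1, hp2⟩ := hp
  have hpair : ∀ c : Fin 256, (∀ y : Fin 256, commT c.1 y.1 = true) →
      c.1 = 0 ∨ c.1 = tI ∨ c.1 = sI ∨ c.1 = sI' := by
    intro c hc
    rcases hp2 c.1 c.2 with (((e | e) | e) | e) | ⟨g, hg, hne⟩
    · exact Or.inl e
    · exact Or.inr (Or.inl e)
    · exact Or.inr (Or.inr (Or.inl e))
    · exact Or.inr (Or.inr (Or.inr e))
    · have hg256 : g < 256 := gen1_lt g hg
      exact absurd (hc ⟨g, hg256⟩) (by simp [hne])
  have hcomm : ∀ c y : Fin 256, commT c.1 y.1 = true → commT (σ c).1 (σ y).1 = true := by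
    intro c y he
    simp only [commT, Bool.or_eq_true, beq_iff_eq] at he ⊢
    rcases he with he | he
    · left
      rw [← hmul, ← hmul]
      congr 2
      refine Fin.ext ?_
      dsimp only
      exact he
    · right
      have hmt := hmul ⟨mulC y.1 c.1, C.mul_lt _ y.2 _ c.2⟩ ⟨tI, htl⟩
      rw [hσt] at hmt
      rw [← hmul, ← hmul y c, ← hmt]
      congr 2
      refine Fin.ext ?_
      dsimp only
      exact he
  have himage : ∀ s : Fin 256, (∀ y : Fin 256, commT s.1 y.1 = true) → s.1 ≠ 0 → s.1 ≠ tI →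
      (σ s).1 = sI ∨ (σ s).1 = sI' := by
    intro s hs h0 ht
    have h4 := hpair (σ s) fun y => by
      obtain ⟨x, rfl⟩ := σ.surjective y
      exact hcomm s x (hs x)
    rcases h4 with e | e | e
    · exact absurd (congrArg Fin.val (σ.injective (show σ s = σ ⟨0, C.zero_lt⟩ by rw [hσ0]; exact Fin.ext e))) h0
    · exact absurd (congrArg Fin.val (σ.injective (show σ s = σ ⟨tI, htl⟩ by rw [hσt]; exact Fin.ext e))) ht
    · exact e
  have hs1 := himage ⟨sI, hsl⟩ (fun y => (hp1 y.1 y.2).1) (by show sI ≠ 0; decide) (by show sI ≠ tI; decide)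
  have hs2 := himage ⟨sI', hsl'⟩ (fun y => (hp1 y.1 y.2).2) (by show sI' ≠ 0; decide) (by show sI' ≠ tI; decide)
  have hσq : σ ^ q = 1 := hpow q hhq
  have hσs : σ ⟨sI, hsl⟩ = ⟨sI, hsl⟩ := by
    by_contra hne
    have e1 : σ ⟨sI, hsl⟩ = ⟨sI', hsl'⟩ := Fin.ext (hs1.resolve_left fun e => hne (Fin.ext e))
    have e2 : σ ⟨sI', hsl'⟩ = ⟨sI, hsl⟩ := by
      refine Fin.ext (hs2.resolve_right fun e => ?_)
      have : σ ⟨sI', hsl'⟩ = σ ⟨sI, hsl⟩ := by rw [e1]; exact Fin.ext e
      exact absurd (congrArg Fin.val (σ.injective this)) (by show sI' ≠ sI; decide)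
    have key : ∀ j, (σ ^ (2 * j)) ⟨sI, hsl⟩ = ⟨sI, hsl⟩ := by
      intro j
      induction j with
      | zero => simp
      | succ j ih =>
        rw [Nat.mul_succ, pow_succ', pow_succ', Equiv.Perm.mul_apply, Equiv.Perm.mul_apply, ih, e1, e2]
    obtain ⟨j, rfl⟩ := hq.odd_of_ne_two hq2
    have := congrArg (fun f : Equiv.Perm (Fin 256) => f ⟨sI, hsl⟩) hσq
    simp only [pow_succ', Equiv.Perm.mul_apply, key, e1, Equiv.Perm.one_apply] at this
    exact absurd (congrArg Fin.val this) (by show sI' ≠ sI; decide)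
  have hσs' : σ ⟨sI', hsl'⟩ = ⟨sI', hsl'⟩ := by
    refine Fin.ext (hs2.resolve_left fun e => ?_)
    have : σ ⟨sI', hsl'⟩ = σ ⟨sI, hsl⟩ := by rw [hσs]; exact Fin.ext e
    exact absurd (congrArg Fin.val (σ.injective this)) (by show sI' ≠ sI; decide)
  refine C.commute_of_classes (k := 8) rfl h σ hσ hq hq2 hσq parityC gen1 preds1
    (by decide) (by decide) ?_ generates1_ok ?_ ?_
  · intro c hc
    have hpar := parity1_ok
    simp only [parity1, Bool.and_eq_true, Bool.or_eq_true, beq_iff_eq, List.all_eq_true, List.mem_range,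
      decide_eq_true_eq] at hpar
    rcases hpar c hc with h0 | ⟨⟨⟨hp, hj⟩, h1⟩, h2⟩
    · exact Or.inl h0
    · exact Or.inr ⟨_, hp, _, hj, h1, fun v _ => by rw [h2]; exact dotBits_flip v _ _ hj⟩
  · intro p hp
    have hm : (List.range 256).countP p ∈ (preds1.map fun p => (List.range 256).countP p) := List.mem_map_of_mem hp
    rw [count1_ok] at hm
    simp only [List.mem_cons, List.not_mem_nil, or_false] at hm
    rcases hm with e | e | e
    · exact ⟨5, e⟩
    · exact ⟨5, e⟩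
    · exact ⟨4, e⟩
  · intro p hp c
    simp only [preds1, List.mem_cons, List.not_mem_nil, or_false] at hp
    have e0 := fun x => Coded.beq_sigma σ x ⟨0, C.zero_lt⟩ hσ0
    have et := fun x => Coded.beq_sigma σ x ⟨tI, htl⟩ hσt
    have es := fun x => Coded.beq_sigma σ x ⟨sI, hsl⟩ hσs
    have es' := fun x => Coded.beq_sigma σ x ⟨sI', hsl'⟩ hσs'
    simp only at e0 et es es'
    have hsq : ∀ a : Fin 256, mulC (σ a).1 (σ a).1 = (σ ⟨mulC a.1 a.1, C.mul_lt _ a.2 _ a.2⟩).1 :=
      fun a => (hmul a a).symm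
    rcases hp with rfl | rfl | rfl
    · simp only [hsq c]
      rw [hsq, e0, et]
    · simp only [hsq c]
      rw [hsq, e0, e0, et, es, es']
    · simp only [hsq c]
      rw [hsq, et]
      congr 1
      have h1 := hmul c ⟨sI, hsl⟩
      have h2 := hmul ⟨sI, hsl⟩ c
      rw [hσs] at h1 h2
      rw [← h1, ← h2, Bool.eq_iff_iff, beq_iff_eq, beq_iff_eq]
      refine ⟨fun e => ?_, fun e => ?_⟩
      · have := congrArg Fin.val (σ.injective (Fin.ext e))
        dsimp only at this
        exact this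
      · congr 2
        refine Fin.ext ?_
        dsimp only
        exact e

end Core

end CfsgLib.LyTwo
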