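import Cfsg.Agent.Lib.LyTwo.Main
import Cfsg.Agent.Lib.Presented.Ly.Upper
import Cfsg.Prelude.Def_FusionComponents

/-!
The presented Lyons group as a model, given its representation and its index over G₂(5).
-/
set_option autoImplicit false
set_option maxRecDepth 100000

namespace CfsgLib.LyTwo

open CfsgLib.Presented.Ly

theorem first_node_ne : ((List.range 7).any fun i => (List.range 7).any fun j =>
    !(ent (Cert.node 1) i j % 5 == ent (Cert.node 0) i j % 5)) = true := by decide +kernel

/-- The model of the presented Lyons group. -/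
noncomputable def presentedModel (rho : Cfsg.Spor.Ly →* Matrix (Fin 111) (Fin 111) (ZMod 5))
    (hinj : Function.Injective rho)
    (ha : rho (mkLy Cfsg.Spor.Ly.a) = mat 111 111 (Cert.node 1))
    (hb : rho (mkLy Cfsg.Spor.Ly.b) = mat 111 111 (Cert.node 2))
    (hc : rho (mkLy Cfsg.Spor.Ly.c) = mat 111 111 (Cert.node 3))
    (hd : rho (mkLy Cfsg.Spor.Ly.d) = mat 111 111 (Cert.node 4))
    (hz : rho (mkLy Cfsg.Spor.Ly.z) = mat 111 111 (Cert.node 5))
    (hidx : toLy.range.index = 8835156) : Model Cfsg.Spor.Ly := by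
  have hR : Subgroup.closure ({mkLy Cfsg.Spor.Ly.a, mkLy Cfsg.Spor.Ly.b, mkLy Cfsg.Spor.Ly.c,
      mkLy Cfsg.Spor.Ly.d} : Set Cfsg.Spor.Ly) = toLy.range := by
    rw [range_toLy, MonoidHom.map_closure]
    simp [Set.image_insert_eq]
  have hnt : toLy.ker ≠ ⊤ := by
    intro htop
    have h1 : mkLy Cfsg.Spor.Ly.a = 1 := by
      have := toLy_of Gen5.a
      rw [MonoidHom.mem_ker.mp (htop ▸ Subgroup.mem_top (PresentedGroup.of Gen5.a) :
        PresentedGroup.of Gen5.a ∈ toLy.ker)] at this
      exact this.symm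
    rw [h1, map_one, ← mat_node_zero] at ha
    have h2 := first_node_ne
    simp only [List.any_eq_true, List.mem_range, Bool.not_eq_true', beq_eq_false_iff_ne] at h2
    obtain ⟨i, hi, j, hj, hne⟩ := h2
    exact hne ((ZMod.natCast_eq_natCast_iff' _ _ 5).mp
      (congrFun (congrFun ha.symm ⟨i, by omega⟩) ⟨j, by omega⟩))
  have hinjT : Function.Injective toLy := by
    haveI := h5_simple
    exact (MonoidHom.ker_eq_bot_iff _).mp (((MonoidHom.normal_ker toLy).eq_bot_or_eq_top).resolve_right hnt)
  have hcardR : Nat.card toLy.range = 5859000000 := by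
    rw [← Nat.card_congr (MonoidHom.ofInjective hinjT).toEquiv, card_H5.1]
  refine
    { rho := rho, inj := hinj
      gA := mkLy Cfsg.Spor.Ly.a, gB := mkLy Cfsg.Spor.Ly.b, gC := mkLy Cfsg.Spor.Ly.c
      gD := mkLy Cfsg.Spor.Ly.d, gZ := mkLy Cfsg.Spor.Ly.z
      hA := ha, hB := hb, hC := hc, hD := hd, hZ := hz
      simple := ?_, innerTwo := ?_, wholeTwo := ?_, oddOrbit := ?_ }
  · rw [hR]
    haveI := h5_simple
    exact (MonoidHom.ofInjective hinjT).symm.isSimpleGroup
  · rw [hR, hcardR]
    norm_num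
  · rw [← toLy.range.card_mul_index, hcardR, hidx]
    norm_num
  · rw [hR]
    haveI : Finite XLy := Nat.finite_of_card_ne_zero (by
      show toLy.range.index ≠ 0
      rw [hidx]; norm_num)
    haveI : Finite toLy.range := Nat.finite_of_card_ne_zero (by rw [hcardR]; norm_num)
    have hsum : 8835156 ≤ 1 + (orb Dce.P1).ncard + (orb Dce.P2).ncard + (orb Dce.P3).ncard + (orb Dce.P4).ncard := by
      rw [← hidx, Subgroup.index, ← Set.ncard_univ, univ_eq]
      have a := Set.ncard_union_le ({Dce.P0} ∪ orb Dce.P1 ∪ orb Dce.P2 ∪ orb Dce.P3) (orb Dce.P4)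
      have b := Set.ncard_union_le ({Dce.P0} ∪ orb Dce.P1 ∪ orb Dce.P2) (orb Dce.P3)
      have c := Set.ncard_union_le ({Dce.P0} ∪ orb Dce.P1) (orb Dce.P2)
      have d := Set.ncard_union_le ({Dce.P0} : Set XLy) (orb Dce.P1)
      rw [Set.ncard_singleton] at d
      omega
    have e1 := orb1_le.2
    have e2 := orb2_le.2
    have e3 := orb3_le.2
    have e4 := orb4_le.2
    have horb : ∀ u : Cfsg.Spor.Ly, u ∉ toLy.range →
        2 ^ 6 ∣ Nat.card ↥(toLy.range ⊓ toLy.range.map (MulAut.conj u).toMonoidHom) →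
        ((u : Cfsg.Spor.Ly) : XLy) ∈ orb Dce.P2 := by
      intro u hu hdvd
      set p : XLy := ((u : Cfsg.Spor.Ly) : XLy)
      have hst : MulAction.stabilizer toLy.range p =
          (toLy.range ⊓ toLy.range.map (MulAut.conj u).toMonoidHom).subgroupOf toLy.range := by
        rw [Subgroup.inf_subgroupOf_left]
        ext g
        rw [MulAction.mem_stabilizer_iff, Subgroup.mem_subgroupOf, Subgroup.mem_map_equiv]
        show ((g.1 : Cfsg.Spor.Ly) • p = p) ↔ _
        rw [MulAction.Quotient.smul_coe, QuotientGroup.eq, smul_eq_mul]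
        rw [← inv_mem_iff]
        simp [MulAut.conj_symm_apply, mul_assoc]
      have horbit : MulAction.orbit toLy.range p = orb p := by
        ext q
        constructor
        · rintro ⟨⟨_, h, rfl⟩, rfl⟩
          exact ⟨h, rfl⟩
        · rintro ⟨h, rfl⟩
          exact ⟨⟨toLy h, h, rfl⟩, rfl⟩
      have hprod : Nat.card (MulAction.stabilizer toLy.range p) * (orb p).ncard = 5859000000 := by
        rw [← horbit, ← MulAction.index_stabilizer, Subgroup.card_mul_index, hcardR]
      rw [hst, Nat.card_congr (Subgroup.subgroupOfEquivOfLe inf_le_left).toEquiv] at hprod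
      have hodd : (orb p).ncard ∣ 91546875 := by
        obtain ⟨k, hk⟩ := hdvd
        rw [hk, mul_assoc] at hprod
        refine ⟨k, Nat.eq_of_mul_eq_mul_left (show 0 < 2 ^ 6 by norm_num) ?_⟩
        rw [mul_comm (orb p).ncard k, hprod]
        norm_num
      have hmove : ∀ q : XLy, p ∈ orb q → orb p = orb q := by
        rintro q ⟨h, hh⟩
        have hh' : toLy h • q = p := hh
        ext r
        constructor
        · rintro ⟨k, rfl⟩
          exact ⟨k * h, by simp only [map_mul, mul_smul]; rw [hh']⟩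
        · rintro ⟨k, rfl⟩
          exact ⟨k * h⁻¹, by show toLy (k * h⁻¹) • p = toLy k • q; rw [← hh', ← mul_smul, ← map_mul, inv_mul_cancel_right]⟩
      have hmem : p ∈ ({Dce.P0} ∪ orb Dce.P1 ∪ orb Dce.P2 ∪ orb Dce.P3 ∪ orb Dce.P4 : Set XLy) :=
        univ_eq ▸ Set.mem_univ p
      rcases hmem with (((h | h) | h) | h) | h
      · exfalso
        refine hu ?_
        have h' : p = pBase := h
        rw [pBase] at h'
        simpa using QuotientGroup.eq.mp h'.symm
      · rw [hmove _ h, show (orb Dce.P1).ncard = 19530 by omega] at hodd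
        norm_num at hodd
      · exact h
      · rw [hmove _ h, show (orb Dce.P3).ncard = 5812500 by omega] at hodd
        norm_num at hodd
      · rw [hmove _ h, show (orb Dce.P4).ncard = 968750 by omega] at hodd
        norm_num at hodd
    intro u v hu hv hdu hdv
    obtain ⟨h, hh⟩ := horb u hu hdu
    obtain ⟨k, hk⟩ := horb v hv hdv
    have e : ((toLy (k * h⁻¹) * u : Cfsg.Spor.Ly) : XLy) = ((v : Cfsg.Spor.Ly) : XLy) := by
      rw [← smul_eq_mul, ← MulAction.Quotient.smul_coe, ← hh, ← hk]
      show toLy (k * h⁻¹) • toLy h • Dce.P2 = toLy k • Dce.P2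
      rw [← mul_smul, ← map_mul, inv_mul_cancel_right]
    exact ⟨toLy (k * h⁻¹), ⟨_, rfl⟩, (toLy (k * h⁻¹) * u)⁻¹ * v, QuotientGroup.eq.mp e, by group⟩

/-- The 2-fusion system of a finite copy of the presented Lyons group is simple, given the representation and
the index. -/
theorem isSimple_of_isoLy (rho : Cfsg.Spor.Ly →* Matrix (Fin 111) (Fin 111) (ZMod 5))
    (hinj : Function.Injective rho)
    (ha : rho (mkLy Cfsg.Spor.Ly.a) = mat 111 111 (Cert.node 1))
    (hb : rho (mkLy Cfsg.Spor.Ly.b) = mat 111 111 (Cert.node 2))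
    (hc : rho (mkLy Cfsg.Spor.Ly.c) = mat 111 111 (Cert.node 3))
    (hd : rho (mkLy Cfsg.Spor.Ly.d) = mat 111 111 (Cert.node 4))
    (hz : rho (mkLy Cfsg.Spor.Ly.z) = mat 111 111 (Cert.node 5))
    (hidx : toLy.range.index = 8835156)
    {G : Type*} [Group G] [Finite G] (hG : Cfsg.Spor.IsoLy G) (S : Sylow 2 G) :
    (Cfsg.groupFusionSystem (S : Subgroup G)).IsSimple 2 := by
  obtain ⟨e⟩ := hG
  let m0 := presentedModel rho hinj ha hb hc hd hz hidx
  let f : G →* Cfsg.Spor.Ly := e.toMonoidHom
  have hmap : (Subgroup.closure ({e.symm m0.gA, e.symm m0.gB, e.symm m0.gC, e.symm m0.gD} : Set G)).map f =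
      Subgroup.closure ({m0.gA, m0.gB, m0.gC, m0.gD} : Set Cfsg.Spor.Ly) := by
    rw [MonoidHom.map_closure]
    simp [f, Set.image_insert_eq]
  have hmem : ∀ g : G, g ∈ Subgroup.closure ({e.symm m0.gA, e.symm m0.gB, e.symm m0.gC, e.symm m0.gD} : Set G) ↔
      e g ∈ Subgroup.closure ({m0.gA, m0.gB, m0.gC, m0.gD} : Set Cfsg.Spor.Ly) := by
    intro g
    rw [← hmap]
    exact (Subgroup.mem_map_iff_mem e.injective).symm
  have hcard : ∀ K : Subgroup G, Nat.card (K.map f) = Nat.card K :=
    fun K => (Nat.card_congr (K.equivMapOfInjective f e.injective).toEquiv).symm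
  let m : Model G :=
    { rho := rho.comp f, inj := hinj.comp e.injective
      gA := e.symm m0.gA, gB := e.symm m0.gB, gC := e.symm m0.gC, gD := e.symm m0.gD, gZ := e.symm m0.gZ
      hA := (congrArg rho (e.apply_symm_apply _)).trans ha
      hB := (congrArg rho (e.apply_symm_apply _)).trans hb
      hC := (congrArg rho (e.apply_symm_apply _)).trans hc
      hD := (congrArg rho (e.apply_symm_apply _)).trans hd
      hZ := (congrArg rho (e.apply_symm_apply _)).trans hz
      simple := by
        haveI := m0.simple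
        exact ((Subgroup.equivMapOfInjective _ f e.injective).trans (MulEquiv.subgroupCongr hmap)).isSimpleGroup
      innerTwo := by rw [← hcard, hmap]; exact m0.innerTwo
      wholeTwo := by rw [Nat.card_congr e.toEquiv]; exact m0.wholeTwo
      oddOrbit := by
        intro u v hu hv hdu hdv
        have key : ∀ u : G, ((Subgroup.closure ({e.symm m0.gA, e.symm m0.gB, e.symm m0.gC, e.symm m0.gD} : Set G)).map
            (MulAut.conj u).toMonoidHom).map f =
            (Subgroup.closure ({m0.gA, m0.gB, m0.gC, m0.gD} : Set Cfsg.Spor.Ly)).map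
              (MulAut.conj (e u)).toMonoidHom := by
          intro u
          rw [← hmap, Subgroup.map_map, Subgroup.map_map]
          congr 1
          ext g
          simp [f]
        obtain ⟨k, hk, l, hl, hkl⟩ := m0.oddOrbit (e u) (e v) (fun h => hu ((hmem u).mpr h))
          (fun h => hv ((hmem v).mpr h))
          (by rw [← key, ← hmap, ← Subgroup.map_inf _ _ f e.injective, hcard]; exact hdu)
          (by rw [← key, ← hmap, ← Subgroup.map_inf _ _ f e.injective, hcard]; exact hdv)
        exact ⟨e.symm k, (hmem _).mpr (by rwa [e.apply_symm_apply]), e.symm l,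
          (hmem _).mpr (by rwa [e.apply_symm_apply]), e.injective (by simp [hkl])⟩ }
  exact m.isSimple S

end CfsgLib.LyTwo
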