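import Cfsg.Agent.Lib.LyTwo.Cert.Small

/-!
Multiplication rules for codes of a group of order 256 built on a group of order 64 by two steps of index two,
and the tests made on these codes.
-/
set_option autoImplicit false

namespace CfsgLib.LyTwo

open CfsgLib.Presented Cert

/-- an entry of a packed table of bytes -/
def tget (v n : ℕ) : ℕ := Nat.land (Nat.shiftRight v (Nat.mul 8 n)) 255

theorem tget_lt (v n : ℕ) : tget v n < 256 := Nat.lt_succ_of_le Nat.and_le_right

/-- right multiplication in the small group -/
def stepC (i j : ℕ) : ℕ := tget stepT (4 * i + j)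
/-- product in the small group -/
def mul0 (i k : ℕ) : ℕ := tget mulT (64 * i + k)
/-- conjugate by the first outer element -/
def phi (i : ℕ) : ℕ := tget phiT i
/-- conjugate by the second outer element -/
def psi (i : ℕ) : ℕ := tget psiT i

/-- product in the middle group -/
def mul1 (a b : ℕ) : ℕ :=
  if b / 64 = 0 then a / 64 * 64 + mul0 (a % 64) (b % 64)
  else if a / 64 = 0 then 64 + mul0 (phi (a % 64)) (b % 64)
  else mul0 sqX (mul0 (phi (a % 64)) (b % 64))

/-- product in the whole group -/
def mulC (a b : ℕ) : ℕ :=
  if b / 128 = 0 then a / 128 * 128 + mul1 (a % 128) (b % 128)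
  else if a / 128 = 0 then 128 + mul1 (psi (a % 128)) (b % 128)
  else mul1 (psi (a % 128)) (b % 128)

/-- the generators of the whole group -/
def gen1 : List ℕ := gen0 ++ [64, 128]

/-- parities of exponents for a code -/
def parityC (c : ℕ) : ℕ := tget parityT (c % 64) + 16 * (c / 64 % 2) + 32 * (c / 128)

/-- parity of the number of common bits, for numbers below `64` -/
def dotBits (v w : ℕ) : Bool :=
  (List.range 6).foldl (fun b k => xor b (v.testBit k && w.testBit k)) false

/-- whether a vector of generator parities is multiplicative on codes -/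
def isHom (n : ℕ) (mul : ℕ → ℕ → ℕ) (par : ℕ → ℕ) (gens : List ℕ) (v : ℕ) : Bool :=
  (List.range n).all fun c => gens.all fun g =>
    (dotBits v (par (mul c g)) == xor (dotBits v (par c)) (dotBits v (par g)))

/-- no nonzero multiplicative vector avoids being constantly one on each of the classes -/
def generates (n : ℕ) (mul : ℕ → ℕ → ℕ) (par : ℕ → ℕ) (gens : List ℕ) (ps : List (ℕ → Bool)) : Bool :=
  (List.range (2 ^ gens.length)).all fun v =>
    (v == 0) || !isHom n mul par gens v || ps.any fun p => (List.range n).all fun c => !p c || dotBits v (par c)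

/-- the number of codes commuting with `c` -/
def centNum (c : ℕ) : ℕ := (List.range 64).countP fun y => mul0 c y == mul0 y c

/-- classes of the small group -/
def preds0 : List (ℕ → Bool) :=
  [fun c => mul0 (mul0 c c) (mul0 c c) == 0 && !(mul0 c c == 0) && !(mul0 c c == tI),
   fun c => mul0 c c == tI && centNum c == 16,
   fun c => !(c == 0) && mul0 c c == 0 && centNum c == 8]

/-- classes of the whole group -/
def preds1 : List (ℕ → Bool) :=
  [fun c => !(mulC (mulC c c) (mulC c c) == 0) && !(mulC (mulC c c) (mulC c c) == tI),
   fun c => mulC (mulC c c) (mulC c c) == 0 && !(mulC c c == 0) && !(mulC c c == tI) &&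
      !(mulC c c == sI) && !(mulC c c == sI'),
   fun c => mulC (mulC c c) (mulC c c) == tI && mulC c sI == mulC sI c]

/-- commutes modulo the centre -/
def commT (c y : ℕ) : Bool := mulC c y == mulC y c || mulC c y == mulC (mulC y c) tI

end CfsgLib.LyTwo
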