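import Cfsg.Agent.Lib.LyTwo.Engine
import Cfsg.Agent.Lib.LyTwo.Cert.Nodes
import Cfsg.Agent.Lib.LyTwo.Cert.Small

/-!
Tests relating the large matrices to their blocks of size seven.
-/
set_option autoImplicit false
set_option maxRecDepth 100000

namespace CfsgLib.LyTwo

open Cert

/-- the leading block of a large matrix -/
def topBlock (L : List ℕ) : List ℕ := (L.take 7).map fun r => r % 8 ^ 7

/-- the block under the leading one vanishes -/
def lowZero (L : List ℕ) : Bool := (L.drop 7).all fun r => r % 8 ^ 7 == 0

/-- the block under the leading one has an entry prime to five -/
def lowNonzero (L : List ℕ) : Bool := (List.range 104).any fun i => (List.range 7).any fun j => !(ent L (i + 7) j % 5 == 0)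

/-- whether each node is built from the first four generators only -/
def innerNodes : List Bool :=
  steps.foldl (fun acc p => acc ++ [acc.getD p.1 false && acc.getD p.2 false]) [true, true, true, true, true, false]

/-- the generators of the smaller group in seven dimensions -/
def smallGen (j : ℕ) : List ℕ := small.getD (gen0.getD j 0) []

theorem low_ok : ([0, 1, 2, 3, 4].all fun k => lowZero (node k)) = true := by decide +kernel

theorem sep_ok : ([38, 61, 87].all fun k => lowNonzero (node k)) = true := by decide +kernel

theorem inner_ok : ((genN ++ letterN).all fun k => innerNodes.getD k false) = true := by decide +kernel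

theorem top_ok : (((List.range 4).all fun j => Presented.listEq (topBlock (node (genN.getD j 0))) (smallGen j)) &&
    ((List.range 8).all fun j => Presented.listEq (topBlock (node (letterN.getD j 0))) (letters.getD j [])) &&
    Presented.listEq (topBlock (node 0)) (small.getD 0 []) &&
    ([0, 1, 2, 3, 4].all fun k => (node k).length == 111)) = true := by decide +kernel

end CfsgLib.LyTwo
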