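import Cfsg.Agent.Lib.LyTwo.Code
import Mathlib.GroupTheory.Sylow
import Mathlib.GroupTheory.Nilpotent
import Mathlib.GroupTheory.Perm.Cycle.Type

/-!
Automorphisms of odd order of a coded 2-group: they fix it as soon as some classes of 2-power size meet every
maximal complement.
-/
set_option autoImplicit false

namespace CfsgLib.LyTwo

variable {G : Type*} [Group G]

/-- A subgroup whose elements are numbered by `0, …, n - 1`. -/
structure Coded (P : Subgroup G) (n : ℕ) (mul : ℕ → ℕ → ℕ) (e : ℕ → G) : Prop where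
  mem : ∀ c < n, e c ∈ P
  surj : ∀ x ∈ P, ∃ c < n, e c = x
  inj : ∀ c < n, ∀ d < n, e c = e d → c = d
  mul_lt : ∀ c < n, ∀ d < n, mul c d < n
  e_mul : ∀ c < n, ∀ d < n, e (mul c d) = e c * e d
  zero_lt : 0 < n
  e_zero : e 0 = 1

variable {P : Subgroup G} {n : ℕ} {mul : ℕ → ℕ → ℕ} {e : ℕ → G}

/-- the bijection with the numbers -/
noncomputable def Coded.equiv (C : Coded P n mul e) : Fin n ≃ P :=
  Equiv.ofBijective (fun c => ⟨e c.1, C.mem c.1 c.2⟩)
    ⟨fun c d h => Fin.ext (C.inj _ c.2 _ d.2 (congrArg Subtype.val h)), fun x => by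
      obtain ⟨c, hc, hx⟩ := C.surj x.1 x.2
      exact ⟨⟨c, hc⟩, Subtype.ext hx⟩⟩

theorem Coded.card_eq (C : Coded P n mul e) : Nat.card P = n := by
  rw [← Nat.card_congr C.equiv, Nat.card_fin]

/-- Conjugation by a normalising element, on numbers. -/
theorem Coded.exists_perm [Finite G] (C : Coded P n mul e) (h : G) (hn : ∀ y ∈ P, h * y * h⁻¹ ∈ P) :
    ∃ σ : Equiv.Perm (Fin n), (∀ c : Fin n, e (σ c).1 = h * e c.1 * h⁻¹) ∧
      (∀ q : ℕ, h ^ q = 1 → σ ^ q = 1) := by
  choose f hf hfe using fun c : Fin n => C.surj _ (hn _ (C.mem c.1 c.2))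
  let g : Fin n → Fin n := fun c => ⟨f c, hf c⟩
  have hg : Function.Injective g := by
    intro a b hab
    have h1 : h * e a.1 * h⁻¹ = h * e b.1 * h⁻¹ := by
      rw [← hfe a, ← hfe b]
      exact congrArg (fun x : Fin n => e x.1) hab
    exact Fin.ext (C.inj _ a.2 _ b.2 (mul_left_cancel (mul_right_cancel h1)))
  let σ := Equiv.ofBijective g (Finite.injective_iff_bijective.mp hg)
  have hσ : ∀ c : Fin n, e (σ c).1 = h * e c.1 * h⁻¹ := fun c => hfe c
  refine ⟨σ, hσ, fun q hq => ?_⟩
  have key : ∀ (k : ℕ) (c : Fin n), e ((σ ^ k) c).1 = h ^ k * e c.1 * (h ^ k)⁻¹ := by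
    intro k
    induction k with
    | zero => intro c; simp
    | succ k ih =>
      intro c
      rw [pow_succ', Equiv.Perm.mul_apply, hσ, ih, pow_succ']
      group
  refine Equiv.ext fun c => Fin.ext (C.inj _ ((σ ^ q) c).2 _ c.2 ?_)
  rw [key, hq]
  simp

/-- An element of odd prime order normalising a coded 2-group commutes with it, if it keeps some classes of
2-power size and every maximal subgroup misses one of them. -/
theorem Coded.commute_of_classes [Finite G] (C : Coded P n mul e) {k : ℕ} (hk : n = 2 ^ k) (h : G)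
    (σ : Equiv.Perm (Fin n)) (hσ : ∀ c : Fin n, e (σ c).1 = h * e c.1 * h⁻¹) {q : ℕ} (hq : q.Prime)
    (hq2 : q ≠ 2) (hσq : σ ^ q = 1) (par : ℕ → ℕ) (gens : List ℕ) (ps : List (ℕ → Bool))
    (hgens : ∀ g ∈ gens, g < n) (hpar0 : par 0 = 0)
    (hdec : ∀ c < n, c = 0 ∨ ∃ p < c, ∃ j < gens.length, mul p (gens.getD j 0) = c ∧
      ∀ v < 2 ^ gens.length, dotBits v (par c) = xor (dotBits v (par p)) (v.testBit j))
    (hgen : generates n mul par gens ps = true)
    (hcount : ∀ p ∈ ps, ∃ i, (List.range n).countP p = 2 ^ i)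
    (hinv : ∀ p ∈ ps, ∀ c : Fin n, p (σ c).1 = p c.1) :
    ∀ y ∈ P, h * y = y * h := by
  classical
  have : Fact (Nat.Prime 2) := ⟨Nat.prime_two⟩
  have : Fact q.Prime := ⟨hq⟩
  have hfix : ∀ p ∈ ps, ∃ c : Fin n, p c.1 = true ∧ h * e c.1 = e c.1 * h := by
    intro p hp
    let τ : Equiv.Perm {c : Fin n // p c.1 = true} :=
      σ.subtypePerm fun c => by simp [hinv p hp c]
    have hcard : Fintype.card {c : Fin n // p c.1 = true} = (List.range n).countP p := by
      rw [Fintype.card_subtype, List.countP_eq_length_filter]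
      have hnd : ((List.range n).filter p).Nodup := List.Nodup.filter _ List.nodup_range
      rw [← List.toFinset_card_of_nodup hnd, ← Finset.card_map Fin.valEmbedding]
      congr 1
      ext x
      simp only [Finset.mem_map, Finset.mem_filter, Finset.mem_univ, true_and, Fin.valEmbedding_apply,
        List.mem_toFinset, List.mem_filter, List.mem_range]
      exact ⟨fun ⟨a, ha, hx⟩ => hx ▸ ⟨a.2, ha⟩, fun ⟨hx, hp⟩ => ⟨⟨x, hx⟩, hp, rfl⟩⟩
    obtain ⟨i, hi⟩ := hcount p hp
    have hτ : τ ^ q ^ 1 = 1 := by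
      refine Equiv.ext fun c => Subtype.ext ?_
      rw [pow_one, Equiv.Perm.subtypePerm_pow, Equiv.Perm.subtypePerm_apply]
      exact congrArg (fun f : Equiv.Perm (Fin n) => f c.1) hσq
    obtain ⟨c, hc⟩ := Equiv.Perm.exists_fixed_point_of_prime (n := 1)
      (show ¬ q ∣ Fintype.card {c : Fin n // p c.1 = true} by
        rw [hcard, hi]
        exact fun hd => hq2 ((Nat.prime_dvd_prime_iff_eq hq Nat.prime_two).mp (hq.dvd_of_dvd_pow hd))) hτ
    refine ⟨c.1, c.2, ?_⟩
    have h1 := hσ c.1
    rw [show σ c.1 = c.1 from congrArg Subtype.val hc] at h1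
    exact (eq_mul_inv_iff_mul_eq.mp h1).symm
  let L : Subgroup P := (Subgroup.centralizer {h}).subgroupOf P
  suffices hL : L = ⊤ by
    intro y hy
    have : (⟨y, hy⟩ : P) ∈ L := hL ▸ Subgroup.mem_top _
    exact (Subgroup.mem_centralizer_singleton_iff.mp this).symm
  by_contra hne
  obtain ⟨M, hM, hLM⟩ := (eq_top_or_exists_le_coatom L).resolve_left hne
  have hcardP : Nat.card P = 2 ^ k := C.card_eq.trans hk
  have hPp : IsPGroup 2 P := IsPGroup.of_card hcardP
  have hidx : M.index = 2 := by
    obtain ⟨j, hj⟩ := IsPGroup.iff_card.mp (hPp.to_subgroup M)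
    have hjk : j < k := by
      have hle : Nat.card M ∣ Nat.card P := Subgroup.card_subgroup_dvd_card M
      rw [hj, hcardP] at hle
      rcases Nat.lt_or_ge j k with h1 | h1
      · exact h1
      · exact absurd (M.eq_top_of_card_eq (by
          rw [hj, hcardP, le_antisymm ((Nat.pow_dvd_pow_iff_le_right (by norm_num)).mp hle) h1])) hM.1
    obtain ⟨K, hK, hMK⟩ := Sylow.exists_subgroup_card_pow_succ (p := 2) (n := j)
      (by rw [hcardP]; exact pow_dvd_pow 2 hjk) hj
    have hKT : K = ⊤ := by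
      rcases hMK.lt_or_eq with h1 | h1
      · exact hM.2 K h1
      · exfalso
        subst h1
        rw [hj] at hK
        exact absurd (Nat.pow_right_injective (le_refl 2) hK) (by omega)
    subst hKT
    rw [Subgroup.card_top, hcardP] at hK
    have := M.card_mul_index
    rw [hj, hcardP, hK, pow_succ] at this
    exact Nat.eq_of_mul_eq_mul_left (Nat.two_pow_pos j) this
  let f : ℕ → Bool := fun c => if hc : c < n then decide ((⟨e c, C.mem c hc⟩ : P) ∉ M) else false
  have hf_mul : ∀ a b, a < n → b < n → f (mul a b) = xor (f a) (f b) := by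
    intro a b ha hb
    simp only [f, dif_pos ha, dif_pos hb, dif_pos (C.mul_lt a ha b hb)]
    have hE : (⟨e (mul a b), C.mem _ (C.mul_lt a ha b hb)⟩ : P) = ⟨e a, C.mem a ha⟩ * ⟨e b, C.mem b hb⟩ :=
      Subtype.ext (C.e_mul a ha b hb)
    rw [hE]
    have := Subgroup.mul_mem_iff_of_index_two hidx (a := ⟨e a, C.mem a ha⟩) (b := ⟨e b, C.mem b hb⟩)
    revert this
    generalize (⟨e a, C.mem a ha⟩ : P) = x
    generalize (⟨e b, C.mem b hb⟩ : P) = y
    intro this
    by_cases h1 : x ∈ M <;> by_cases h2 : y ∈ M <;> simp [this, h1, h2]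
  set v := Nat.ofBits (fun j : Fin gens.length => f (gens.getD j.1 0)) with hv
  have hvlt : v < 2 ^ gens.length := Nat.ofBits_lt_two_pow _
  have hvbit : ∀ j < gens.length, v.testBit j = f (gens.getD j 0) := by
    intro j hj
    rw [hv, Nat.testBit_ofBits_lt _ _ hj]
  have hf0 : f 0 = false := by
    simp only [f, dif_pos C.zero_lt, decide_eq_false_iff_not, not_not]
    rw [show (⟨e 0, C.mem 0 C.zero_lt⟩ : P) = 1 from Subtype.ext C.e_zero]
    exact M.one_mem
  have hfv : ∀ c < n, f c = dotBits v (par c) := by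
    intro c
    induction c using Nat.strong_induction_on with
    | _ c ih =>
      intro hc
      rcases hdec c hc with rfl | ⟨p, hp, j, hj, hmul, hbits⟩
      · rw [hf0, hpar0]
        simp [dotBits, List.range_succ]
      · have hg : gens.getD j 0 < n := by
          rw [List.getD_eq_getElem _ _ hj]
          exact hgens _ (List.getElem_mem hj)
        rw [hbits v hvlt, ← ih p hp (hp.trans hc), hvbit j hj, ← hf_mul p _ (hp.trans hc) hg, hmul]
  have hg := List.all_eq_true.mp hgen v (List.mem_range.mpr hvlt)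
  rw [Bool.or_eq_true, Bool.or_eq_true] at hg
  rcases hg with (h1 | h1) | h1
  · -- the vector is not zero
    apply hM.1
    rw [eq_top_iff]
    rintro x -
    obtain ⟨c, hc, hx⟩ := C.surj x.1 x.2
    have := hfv c hc
    rw [beq_iff_eq.mp h1] at this
    simp only [f, dif_pos hc] at this
    have hz : dotBits 0 (par c) = false := by simp [dotBits, List.range_succ]
    rw [hz, decide_eq_false_iff_not, not_not] at this
    rwa [show (⟨e c, C.mem c hc⟩ : P) = x from Subtype.ext hx] at this
  · rw [Bool.not_eq_true'] at h1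
    have : isHom n mul par gens v = true := by
      simp only [isHom, List.all_eq_true, List.mem_range, beq_iff_eq]
      intro c hc g hg
      rw [← hfv _ (C.mul_lt c hc g (hgens g hg)), ← hfv c hc, ← hfv g (hgens g hg)]
      exact hf_mul c g hc (hgens g hg)
    rw [this] at h1
    exact Bool.noConfusion h1
  · obtain ⟨p, hp, hall⟩ := List.any_eq_true.mp h1
    obtain ⟨c, hpc, hcomm⟩ := hfix p hp
    have := List.all_eq_true.mp hall c.1 (List.mem_range.mpr c.2)
    rw [hpc, ← hfv c.1 c.2] at this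
    simp only [f, dif_pos c.2, Bool.not_true, Bool.false_or, decide_eq_true_eq] at this
    exact this (hLM (Subgroup.mem_centralizer_singleton_iff.mpr hcomm.symm))

end CfsgLib.LyTwo
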