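import Cfsg.Agent.Lib.Presented.MatCheck
import Mathlib.LinearAlgebra.Matrix.GeneralLinearGroup.Defs

/-!
Kernel-checked products of dense matrices over the field with five elements.

A matrix is a list of rows, a row is one number with three bits per entry.  For a product check the
rows are spread to sixteen bits per entry, so that one row of a product costs one multiplication and
one addition per entry of the left factor.
-/
set_option autoImplicit false

namespace CfsgLib.LyTwo

open CfsgLib.Presented

/-- a row with sixteen bits per entry -/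
noncomputable def widen (m : ℕ) : ℕ → ℕ :=
  Nat.rec (motive := fun _ => ℕ → ℕ) (fun _ => 0)
    (fun _ ih r => Nat.add (Nat.mod r 8) (Nat.mul 65536 (ih (Nat.div r 8)))) m

/-- spread all rows, evaluating each one before continuing -/
noncomputable def widenAll {β : Type} (m : ℕ) (l : List ℕ) : (List ℕ → β) → β :=
  List.rec (motive := fun _ => (List ℕ → β) → β) (fun k => k [])
    (fun r _ ih k => Vec.force (widen m r) fun v => ih fun L => k (v :: L)) l

/-- a combination of rows with the entries of `a` as coefficients -/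
noncomputable def dotRow (B : List ℕ) : ℕ → ℕ :=
  List.rec (motive := fun _ => ℕ → ℕ) (fun _ => 0)
    (fun r _ ih a => Nat.add (Nat.mul (Nat.mod a 8) r) (ih (Nat.div a 8))) B

/-- all lanes equal to `8191` -/
noncomputable def lanes13 (m : ℕ) : ℕ := MatCheck.lanes 65536 8191 m

/-- the row test: the number is a multiple of five in every lane -/
noncomputable def laneTest (C X : ℕ) : Bool :=
  Nat.beq (Nat.mod X 5) 0 && Vec.force (Nat.div X 5) fun q => Nat.beq (Nat.land q C) q

/-- the test of all rows -/
noncomputable def rowsTest (C : ℕ) (BW : List ℕ) : List ℕ → List ℕ → Bool :=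
  fun A => List.rec (motive := fun _ => List ℕ → Bool) (fun CW => CW.isEmpty)
    (fun a _ ih CW => List.rec (motive := fun _ => Bool) false
      (fun c cs _ => Vec.force (Nat.add (dotRow BW a) (Nat.mul 4 c)) fun X => laneTest C X && ih cs) CW) A

/-- the test that the product of an `n × n` and an `n × m` matrix is the third one -/
noncomputable def mulCheck (n m : ℕ) (A B C : List ℕ) : Bool :=
  Vec.force (lanes13 m) fun K =>
    Nat.beq A.length n && Nat.beq B.length n && Nat.beq C.length n &&
    Nat.blt K ((65536) ^ m) &&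
    (List.range m).all (fun j => Nat.beq (K / 65536 ^ j % 65536) 8191) &&
    widenAll m B fun BW => widenAll m C fun CW => rowsTest K BW A CW

/-- an entry -/
def ent (L : List ℕ) (i j : ℕ) : ℕ := L.getD i 0 / 8 ^ j % 8

/-- the matrix of a list of rows -/
def mat (n m : ℕ) (L : List ℕ) : Matrix (Fin n) (Fin m) (ZMod 5) :=
  fun i j => (ent L i j : ZMod 5)

theorem widen_eq : ∀ m r, widen m r = ∑ j ∈ Finset.range m, r / 8 ^ j % 8 * 65536 ^ j
  | 0, r => rfl
  | m + 1, r => by
    show r % 8 + 65536 * widen m (r / 8) = _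
    rw [widen_eq m, Finset.sum_range_succ', Finset.mul_sum, pow_zero, Nat.div_one, pow_zero, mul_one, add_comm]
    congr 1
    refine Finset.sum_congr rfl fun j _ => ?_
    rw [Nat.div_div_eq_div_mul, ← pow_succ', pow_succ 65536]
    ring

theorem widenAll_eq {β : Type} (m : ℕ) : ∀ (l : List ℕ) (k : List ℕ → β),
    widenAll m l k = k (l.map (widen m))
  | [], _ => rfl
  | r :: l, k => by
    show Vec.force (widen m r) (fun v => widenAll m l fun L => k (v :: L)) = _
    rw [Vec.force_eq, widenAll_eq m l]
    rfl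

theorem dotRow_eq : ∀ (B : List ℕ) (a : ℕ),
    dotRow B a = ∑ k ∈ Finset.range B.length, a / 8 ^ k % 8 * B.getD k 0
  | [], _ => rfl
  | r :: B, a => by
    show a % 8 * r + dotRow B (a / 8) = _
    rw [dotRow_eq B, List.length_cons, Finset.sum_range_succ', pow_zero, Nat.div_one, List.getD_cons_zero,
      add_comm]
    congr 1
    refine Finset.sum_congr rfl fun k _ => ?_
    rw [Nat.div_div_eq_div_mul, ← pow_succ', List.getD_cons_succ]

theorem rowsTest_spec (K : ℕ) (BW : List ℕ) : ∀ (A CW : List ℕ), rowsTest K BW A CW = true →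
    ∀ i, i < A.length → laneTest K (dotRow BW (A.getD i 0) + 4 * CW.getD i 0) = true
  | [], _, _, i, hi => absurd hi (Nat.not_lt_zero i)
  | a :: A, [], h, _, _ => Bool.noConfusion h
  | a :: A, c :: CW, h, i, hi => by
    change (Vec.force _ fun X => laneTest K X && rowsTest K BW A CW) = true at h
    rw [Vec.force_eq, Bool.and_eq_true] at h
    cases i with
    | zero => exact h.1
    | succ i => simpa using rowsTest_spec K BW A CW h.2 i (Nat.lt_of_succ_lt_succ hi)

theorem laneTest_spec {m K : ℕ} (hK : K < 65536 ^ m) (hd : ∀ j < m, K / 65536 ^ j % 65536 = 8191)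
    (f : ℕ → ℕ) (hf : ∀ j < m, f j < 65536)
    (h : laneTest K (∑ j ∈ Finset.range m, f j * 65536 ^ j) = true) {j : ℕ} (hj : j < m) :
    ((f j : ℕ) : ZMod 5) = 0 := by
  set X := ∑ j ∈ Finset.range m, f j * 65536 ^ j with hX
  rw [laneTest, Vec.force_eq, Bool.and_eq_true] at h
  have h1 : X % 5 = 0 := Nat.eq_of_beq_eq_true h.1
  have h2 : (X / 5) &&& K = X / 5 := Nat.eq_of_beq_eq_true h.2
  have hq : X / 5 < 65536 ^ m := lt_of_le_of_lt (h2 ▸ Nat.and_le_right) hK
  have hqd : ∀ k < m, X / 5 / 65536 ^ k % 65536 ≤ 8191 := by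
    intro k hk
    rw [← h2]
    have := MatCheck.digit_and_le (X / 5) K 16 k
    rw [show (2 : ℕ) ^ 16 = 65536 by norm_num, hd k hk] at this
    exact this
  have hXq : X = ∑ k ∈ Finset.range m, (5 * (X / 5 / 65536 ^ k % 65536)) * 65536 ^ k := by
    conv_lhs => rw [← Nat.div_add_mod X 5, h1, add_zero, MatCheck.eq_sum_digits 65536 m _ hq, Finset.mul_sum]
    exact Finset.sum_congr rfl fun k _ => by ring
  have e1 := MatCheck.digit_sum 65536 m f j hf hj
  have e2 := MatCheck.digit_sum 65536 m (fun k => 5 * (X / 5 / 65536 ^ k % 65536)) j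
    (fun k hk => by have := hqd k hk; omega) hj
  rw [← hX] at e1
  rw [← hXq, e1] at e2
  rw [e2, Nat.cast_mul, show ((5 : ℕ) : ZMod 5) = 0 from ZMod.natCast_self 5, zero_mul]

/-- A checked product. -/
theorem mulCheck_spec {n m : ℕ} (hn : n ≤ 111) {A B C : List ℕ} (h : mulCheck n m A B C = true) :
    mat n n A * mat n m B = mat n m C := by
  rw [mulCheck, Vec.force_eq, widenAll_eq, widenAll_eq] at h
  simp only [Bool.and_eq_true, List.all_eq_true, List.mem_range, Nat.blt_eq] at h
  obtain ⟨⟨⟨⟨⟨hA, hB⟩, hC⟩, hK⟩, hd⟩, hr⟩ := h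
  replace hA : A.length = n := Nat.eq_of_beq_eq_true hA
  replace hB : B.length = n := Nat.eq_of_beq_eq_true hB
  replace hC : C.length = n := Nat.eq_of_beq_eq_true hC
  have hd' : ∀ j < m, lanes13 m / 65536 ^ j % 65536 = 8191 := fun j hj => Nat.eq_of_beq_eq_true (hd j hj)
  ext i j
  have hrow := rowsTest_spec _ _ _ _ hr i (hA ▸ i.2)
  have hgw : ∀ (L : List ℕ) (k : ℕ), k < L.length → (L.map (widen m)).getD k 0 = widen m (L.getD k 0) := by
    intro L k hk
    rw [List.getD_eq_getElem _ _ (by simpa using hk), List.getElem_map, List.getD_eq_getElem _ _ hk]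
  let f : ℕ → ℕ := fun l => (∑ k ∈ Finset.range n, ent A i k * ent B k l) + 4 * ent C i l
  have hexp : dotRow (B.map (widen m)) (A.getD i 0) + 4 * (C.map (widen m)).getD i 0
      = ∑ l ∈ Finset.range m, f l * 65536 ^ l := by
    rw [hgw C i (hC ▸ i.2), dotRow_eq, List.length_map, hB, widen_eq]
    simp only [f, add_mul, Finset.sum_add_distrib, Finset.sum_mul, Finset.mul_sum]
    congr 1
    · rw [Finset.sum_comm]
      refine Finset.sum_congr rfl fun k hk => ?_
      rw [hgw B k (hB ▸ Finset.mem_range.mp hk), widen_eq, Finset.mul_sum]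
      refine Finset.sum_congr rfl fun l _ => ?_
      simp only [ent]
      ring
    · refine Finset.sum_congr rfl fun l _ => ?_
      simp only [ent]
      ring
  rw [hexp] at hrow
  have h8 : ∀ (L : List ℕ) (a b : ℕ), ent L a b ≤ 7 := fun L a b => Nat.le_of_lt_succ (Nat.mod_lt _ (by norm_num))
  have hf : ∀ l < m, f l < 65536 := by
    intro l _
    have hs : ∑ k ∈ Finset.range n, ent A i k * ent B k l ≤ n * 49 := by
      refine le_trans (Finset.sum_le_sum fun k _ => Nat.mul_le_mul (h8 A i k) (h8 B k l)) ?_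
      simp
    have := h8 C i l
    simp only [f]
    omega
  have h0 := laneTest_spec hK hd' f hf hrow j.2
  simp only [f, Nat.cast_add, Nat.cast_mul, Nat.cast_sum] at h0
  rw [Matrix.mul_apply]
  simp only [mat]
  rw [Fin.sum_univ_eq_sum_range (fun k => (ent A i k : ZMod 5) * (ent B k j : ZMod 5)) n]
  have h4 : ((4 : ℕ) : ZMod 5) = -1 := by decide
  rw [h4, neg_one_mul, ← sub_eq_add_neg, sub_eq_zero] at h0
  exact h0

end CfsgLib.LyTwo
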