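import Cfsg.Agent.Lib.LyTwo.Automorphisms
import Cfsg.Agent.Lib.FusionMathieu.Frame

/-!
The 2-fusion system of a group with the stored representation of the Lyons group is simple.
-/
set_option autoImplicit false
set_option maxRecDepth 100000

namespace CfsgLib.LyTwo

open Cert

/-- the conjugation giving the second outer element -/
def relConj : Bool :=
  nodeN.contains (6, 59) && prodKnown 48 58 0 &&
    (List.range Core.size).any fun k => prodKnown 48 59 k && prodKnown k 58 61

theorem relConj_ok : relConj = true := by decide +kernel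

theorem letterN_ok : (letterN.all fun k => decide (k < Core.size) && innerNodes.getD k false) = true := by
  decide +kernel

namespace Model

open Core

variable {G : Type*} [Group G] [Finite G] (m : Model G)

/-- The central involution. -/
def tc : G := m.e0 tI

theorem el_letter {x : ℕ} (hx : x < 8) :
    m.el (letterN.getD x 0) ∈ m.inner ∧ m.cor (m.el (letterN.getD x 0)) = mat 7 7 (letters.getD x []) := by
  have hl : letterN.getD x 0 ∈ letterN := by
    have : letterN.length = 8 := rfl
    rw [List.getD_eq_getElem _ _ (by omega)]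
    exact List.getElem_mem _
  have h := List.all_eq_true.mp letterN_ok _ hl
  rw [Bool.and_eq_true, decide_eq_true_eq] at h
  have ht := top_ok
  simp only [Bool.and_eq_true] at ht
  exact ⟨m.el_mem_inner h.2, m.cor_el h.1 (List.all_eq_true.mp ht.1.1.2 x (List.mem_range.mpr hx))⟩

/-- Each listed involution is a conjugate of the central one. -/
theorem conj_tc {y : ℕ} (hy : y ∈ conjs.map Prod.fst) : y < 64 ∧ ∃ w : G, w * m.tc * w⁻¹ = m.e0 y := by
  obtain ⟨c, hc, rfl⟩ := List.mem_map.mp hy
  have hok := List.all_eq_true.mp conjs_ok c hc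
  have heq := List.all_eq_true.mp conjEq_ok c hc
  simp only [conjOk, Bool.and_eq_true, decide_eq_true_eq, List.all_eq_true, List.mem_range] at hok
  obtain ⟨⟨⟨⟨⟨hy64, hlen⟩, hpos⟩, hlt⟩, h0⟩, hchain⟩ := hok
  refine ⟨hy64, ?_⟩
  have hx : ∀ k < c.2.1.length, c.2.1.getD k 0 < 8 := fun k hk => by
    rw [List.getD_eq_getElem _ _ hk]
    exact hlt _ (List.getElem_mem hk)
  have hprod : ∀ k < c.2.1.length, ∃ w ∈ m.inner, m.cor w = mat 7 7 (c.2.2.getD k []) := by
    intro k
    induction k with
    | zero =>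
      intro hk
      obtain ⟨h1, h2⟩ := m.el_letter (hx 0 hk)
      exact ⟨_, h1, h2.trans (by rw [Presented.listEq_eq h0])⟩
    | succ k ih =>
      intro hk
      obtain ⟨w, hw, hcw⟩ := ih (Nat.lt_of_succ_lt hk)
      obtain ⟨h1, h2⟩ := m.el_letter (hx (k + 1) hk)
      exact ⟨_, m.inner.mul_mem hw h1, by
        rw [m.cor_mul (m.keeps_inner h1), hcw, h2, mulCheck_spec (by norm_num) (hchain k (by omega))]⟩
  obtain ⟨w, hw, hcw⟩ := hprod (c.2.2.length - 1) (by omega)
  refine ⟨w, ?_⟩
  rw [mul_inv_eq_iff_eq_mul]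
  refine m.eq_of_cor (m.inner.mul_mem hw (m.e0_mem tI_lt)) (m.inner.mul_mem (m.e0_mem hy64) hw) ?_
  rw [tc, m.cor_mul (m.keeps_inner (m.e0_mem tI_lt)), m.cor_mul (m.keeps_inner hw), hcw, m.cor_e0 tI_lt,
    m.cor_e0 hy64]
  ext i j
  simp only [conjEq, List.all_eq_true, List.mem_range, beq_iff_eq] at heq
  have h2 := (ZMod.natCast_eq_natCast_iff' _ _ 5).mpr (heq i.1 i.2 j.1 j.2)
  simp only [Nat.cast_list_sum, List.map_map] at h2
  simp only [Matrix.mul_apply, mat]
  simp only [Fin.sum_univ_seven, Fin.val_zero, Fin.val_one, Fin.val_two]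
  simp only [List.range_succ, List.range_zero, List.nil_append, List.map_append, List.map_cons, List.map_nil,
    List.sum_append, List.sum_cons, List.sum_nil, Function.comp_apply, Nat.cast_mul, add_zero, zero_add] at h2
  exact h2

include m in
theorem isSimple (S : Sylow 2 G) : (Cfsg.groupFusionSystem (S : Subgroup G)).IsSimple 2 := by
  have C := m.P_coded
  refine FusionMathieu.isSimple_of_frame S m.P (k := 8) (by norm_num) C.card_eq m.wholeTwo m.tc ?_ ?_ ?_
  · rintro w ⟨c, hc, rfl⟩ hcomm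
    rcases centre1 ⟨c, hc⟩ (fun y => (C.comm_iff ⟨c, hc⟩ y).mpr (hcomm _ (C.mem _ y.2))) with e | e
    · exact Or.inl (by rw [show c = 0 from e, m.eC_zero])
    · exact Or.inr (by rw [show c = tI from e, tc, m.eC_e0 tI_lt])
  · intro K hK hclosed
    have hy : ∀ y ∈ conjs.map Prod.fst, y < 64 ∧ m.e0 y ∈ K := by
      intro y hy
      obtain ⟨hlt, w, hw⟩ := m.conj_tc hy
      exact ⟨hlt, hw ▸ hclosed w _ hK (hw ▸ m.P0_le_P (m.P0_coded.mem y hlt))⟩
    have hg0 : ∀ j < 4, m.g0 j ∈ K := by
      intro j hj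
      have h := List.all_eq_true.mp genWords_ok j (List.mem_range.mpr hj)
      simp only [Bool.and_eq_true, List.all_eq_true, List.contains_iff_mem, beq_iff_eq] at h
      have hfold : ∀ (l : List ℕ) (a : ℕ), a < 64 → m.e0 a ∈ K → (∀ y ∈ l, y < 64 ∧ m.e0 y ∈ K) →
          l.foldl mul0 a < 64 ∧ m.e0 (l.foldl mul0 a) ∈ K := by
        intro l
        induction l with
        | nil => exact fun a ha hak _ => ⟨ha, hak⟩
        | cons y l ih =>
          intro a ha hak hl
          obtain ⟨hy1, hy2⟩ := hl y List.mem_cons_self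
          exact ih (mul0 a y) (mul0_lt ha hy1) (by rw [m.e0_mul ha hy1]; exact K.mul_mem hak hy2)
            fun z hz => hl z (List.mem_cons_of_mem _ hz)
      have h2 := hfold (genWords.getD j []) 0 (by norm_num) (by rw [m.e0_zero]; exact K.one_mem)
        fun y hy' => hy y (h.1 y hy')
      rw [h.2] at h2
      have hg := List.all_eq_true.mp gen0_ok j (List.mem_range.mpr hj)
      rw [beq_iff_eq] at hg
      rw [hg, ← m.e0_step (by norm_num) hj, m.e0_zero, one_mul] at h2
      exact h2.2
    have he0 : ∀ i < 64, m.e0 i ∈ K := fun i hi =>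
      e0_induction (p := fun i => m.e0 i ∈ K) (by rw [m.e0_zero]; exact K.one_mem)
        (fun q j i _ hj hi _ hi0 hpar hq => by rw [m.e0_par hi hi0, hpar]; exact K.mul_mem hq (hg0 j hj)) i hi
    have hx2 : m.x2 ∈ K := by
      have h := relConj_ok
      simp only [relConj, Bool.and_eq_true, List.contains_iff_mem, List.any_eq_true, List.mem_range] at h
      obtain ⟨⟨h6, h0⟩, k, -, hk1, hk2⟩ := h
      have hinv : m.el 58 = (m.el 48)⁻¹ := eq_inv_of_mul_eq_one_right (by rw [m.el_prod h0, m.el_zero])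
      have hx : m.el 48 * m.e0 6 * (m.el 48)⁻¹ = m.x2 := by
        rw [← hinv, m.e0_node h6, m.el_prod hk1, m.el_prod hk2, x2]
      refine hx ▸ hclosed _ _ (he0 6 (by norm_num)) (hx.symm ▸ ⟨128, by norm_num, ?_⟩)
      simp [eC, e1, m.e0_zero]
    have hx1 : m.x1 ∈ K := by
      have h := outWord_ok
      simp only [Bool.and_eq_true, List.all_eq_true, Bool.or_eq_true, decide_eq_true_eq, beq_iff_eq] at h
      have hfold : ∀ (l : List ℕ) (a : ℕ), a < 256 → m.eC a ∈ K → (∀ y ∈ l, y < 64 ∨ y = 128) →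
          m.eC (l.foldl mulC a) ∈ K := by
        intro l
        induction l with
        | nil => exact fun a _ hak _ => hak
        | cons y l ih =>
          intro a ha hak hl
          have hy1 : y < 256 := by rcases hl y List.mem_cons_self with e | e <;> omega
          refine ih (mulC a y) (mulC_lt ha hy1) ?_ fun z hz => hl z (List.mem_cons_of_mem _ hz)
          rw [m.eC_mul ha hy1]
          refine K.mul_mem hak ?_
          rcases hl y List.mem_cons_self with e | e
          · rw [m.eC_e0 e]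
            exact he0 y e
          · subst e
            simpa [eC, e1, m.e0_zero] using hx2
      have h2 := hfold Cert.outWord 0 (by norm_num) (by rw [m.eC_zero]; exact K.one_mem) h.1
      rw [h.2] at h2
      simpa [eC, e1, m.e0_zero] using h2
    rintro x ⟨c, hc, rfl⟩
    simp only [eC, e1]
    refine K.mul_mem ?_ (K.mul_mem ?_ (he0 _ (Nat.mod_lt _ (by norm_num))))
    · split_ifs
      · exact K.one_mem
      · exact hx2
    · split_ifs
      · exact K.one_mem
      · exact hx1
  · intro h hn q hq hq2 hhq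
    have hcomm := m.commute_P h hn hq hq2 hhq
    have hcomm0 : ∀ y ∈ m.P0, h * y = y * h := fun y hy => hcomm y (m.P0_le_P hy)
    have hodd : Odd q := hq.odd_of_ne_two hq2
    -- inside the simple subgroup such an element is trivial
    have hsmall : ∀ g ∈ m.inner, ∀ r : ℕ, Odd r → g ^ r = 1 → (∀ y ∈ m.P0, g * y = y * g) → g = 1 := by
      intro g hg r hr hgr hgc
      refine m.eq_of_cor hg m.inner.one_mem ?_
      have h1 : m.corHom ⟨g, hg⟩ = 1 := by
        refine commutant_trivial _ (fun j hj => ?_) hr ?_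
        · have hj' := m.g0_mem hj
          have hjP : m.g0 j ∈ m.P0 := by
            have := m.P0_coded.mem _ (stepC_lt (i := 0) (by norm_num) hj)
            rwa [← m.e0_step (by norm_num) hj, m.e0_zero, one_mul] at this
          show mat 7 7 (smallGen j) * m.cor g = m.cor g * mat 7 7 (smallGen j)
          rw [← m.cor_g0 hj, ← m.cor_mul (m.keeps_inner hg), ← m.cor_mul (m.keeps_inner hj'), hgc _ hjP]
        · rw [← map_pow]
          exact (congrArg m.corHom (Subtype.ext (by simp [hgr]) : (⟨g, hg⟩ : m.inner) ^ r = 1)).trans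
            (map_one m.corHom)
      exact h1.trans (map_one m.corHom).symm
    refine (fun hh => hsmall h hh q hodd hhq hcomm0) ?_
    -- it fixes the base point
    by_contra hout
    let R : Subgroup G := m.inner ⊓ m.inner.map (MulAut.conj m.x1).toMonoidHom
    have hle : ∀ g : G, (∀ y ∈ m.P0, g⁻¹ * y * g ∈ m.inner) →
        m.P0 ≤ m.inner ⊓ m.inner.map (MulAut.conj g).toMonoidHom := fun g hg y hy =>
      ⟨m.P0_le hy, ⟨g⁻¹ * y * g, hg y hy, by simp [MulAut.conj_apply, mul_assoc]⟩⟩
    have hx1le : m.P0 ≤ R := hle m.x1 fun y hy => by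
      obtain ⟨c, hc, rfl⟩ := hy
      rw [mul_assoc, m.e0_phi hc, inv_mul_cancel_left]
      exact m.e0_mem (phi_lt hc)
    have hhle : m.P0 ≤ m.inner ⊓ m.inner.map (MulAut.conj h).toMonoidHom := hle h fun y hy => by
      rw [mul_assoc, ← hcomm0 y hy, inv_mul_cancel_left]
      exact m.P0_le hy
    have hcard0 : Nat.card m.P0 = 2 ^ 6 := m.P0_coded.card_eq
    obtain ⟨k, hk, l, hl, hkl⟩ := m.oddOrbit m.x1 h m.outer_notMem.1 hout
      (hcard0 ▸ Subgroup.card_dvd_of_le hx1le) (hcard0 ▸ Subgroup.card_dvd_of_le hhle)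
    -- conjugate inside the stabiliser
    have hkR : ∀ y ∈ m.P0, k⁻¹ * y * k ∈ R := by
      intro y hy
      obtain ⟨-, ⟨v, hv, hve⟩⟩ := hhle hy
      refine ⟨m.inner.mul_mem (m.inner.mul_mem (m.inner.inv_mem hk) (m.P0_le hy)) hk, ⟨l * v * l⁻¹,
        m.inner.mul_mem (m.inner.mul_mem hl hv) (m.inner.inv_mem hl), ?_⟩⟩
      rw [← hve, hkl]
      simp only [MulEquiv.coe_toMonoidHom, MulAut.conj_apply]
      group
    have hnot : ¬ 2 ^ 7 ∣ Nat.card R := fun hd => m.innerTwo (hd.trans (Subgroup.card_dvd_of_le inf_le_left))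
    have : Fact (Nat.Prime 2) := ⟨Nat.prime_two⟩
    have hsyl : ∀ Q : Subgroup R, Nat.card Q = 2 ^ 6 → ∃ S : Sylow 2 R, (S : Subgroup R) = Q := by
      intro Q hQ
      obtain ⟨S, hS⟩ := (IsPGroup.of_card hQ).exists_le_sylow
      obtain ⟨j, hj⟩ := IsPGroup.iff_card.mp S.2
      have hj6 : j ≤ 6 := by
        by_contra hne
        exact hnot ((pow_dvd_pow 2 (by omega)).trans (hj ▸ Subgroup.card_subgroup_dvd_card (S : Subgroup R)))
      exact ⟨S, (Subgroup.eq_of_le_of_card_ge hS (by rw [hj, hQ]; exact Nat.pow_le_pow_right (by norm_num) hj6)).symm⟩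
    let Q1 : Subgroup R := m.P0.subgroupOf R
    let Q2 : Subgroup R := (m.P0.map (MulAut.conj k⁻¹).toMonoidHom).subgroupOf R
    have hQ2le : m.P0.map (MulAut.conj k⁻¹).toMonoidHom ≤ R := by
      rintro _ ⟨y, hy, rfl⟩
      simpa [MulAut.conj_apply] using hkR y hy
    obtain ⟨S1, hS1⟩ := hsyl Q1 (by rw [Nat.card_congr (Subgroup.subgroupOfEquivOfLe hx1le).toEquiv, hcard0])
    obtain ⟨S2, hS2⟩ := hsyl Q2 (by
      rw [Nat.card_congr (Subgroup.subgroupOfEquivOfLe hQ2le).toEquiv,
        Subgroup.card_map_of_injective (MulAut.conj k⁻¹).injective, hcard0])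
    obtain ⟨r, hr⟩ := MulAction.exists_smul_eq R S1 S2
    let n : G := k * r.1
    have hnH : n ∈ m.inner := m.inner.mul_mem hk r.2.1
    have hnN : ∀ y ∈ m.P0, n * y * n⁻¹ ∈ m.P0 := by
      intro y hy
      have h1 : r * (⟨y, hx1le hy⟩ : R) * r⁻¹ ∈ (S2 : Subgroup R) := by
        rw [← hr, Sylow.coe_subgroup_smul, Subgroup.mem_pointwise_smul_iff_inv_smul_mem, hS1]
        simpa [MulAut.smul_def, Subgroup.mem_subgroupOf, Q1, mul_assoc] using hy
      rw [hS2, Subgroup.mem_subgroupOf] at h1
      obtain ⟨v, hv, hve⟩ := h1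
      have e1 : n * y * n⁻¹ = v := by
        have := congrArg (fun u : G => k * u * k⁻¹) hve
        simp [MulAut.conj_apply, mul_assoc] at this
        rw [this]
        simp [n, mul_assoc]
      rw [e1]
      exact hv
    -- the normaliser of the group of order 64 in the simple subgroup
    let N : Subgroup G := m.inner ⊓ Subgroup.normalizer (m.P0 : Set G)
    have hnmem : n ∈ N := ⟨hnH, Subgroup.mem_normalizer_fintype hnN⟩
    have hP0N : m.P0 ≤ N := le_inf m.P0_le Subgroup.le_normalizer
    have hN2 : IsPGroup 2 N := by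
      refine IsPGroup.of_card (n := (Nat.card N).primeFactorsList.length)
        (Nat.eq_prime_pow_of_unique_prime_dvd Nat.card_pos.ne' fun {d} hd hdd => ?_)
      by_contra hd2
      have : Fact d.Prime := ⟨hd⟩
      obtain ⟨g, hg⟩ := exists_prime_orderOf_dvd_card' d hdd
      have hg1 : (g : G) ^ d = 1 := by
        rw [← Subgroup.coe_pow, ← hg, pow_orderOf_eq_one]
        rfl
      have hnorm : ∀ y ∈ m.P0, (g : G) * y * (g : G)⁻¹ ∈ m.P0 := fun y hy =>
        (Subgroup.mem_normalizer_iff.mp g.2.2 y).mp hy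
      have h1 := hsmall g g.2.1 d (hd.odd_of_ne_two hd2) hg1 (m.commute_P0 g hnorm hd hd2 hg1)
      rw [Subtype.ext (a2 := (1 : N)) h1, orderOf_one] at hg
      exact hd.one_lt.ne hg
    have hNP : m.P0 = N := by
      obtain ⟨j, hj⟩ := IsPGroup.iff_card.mp hN2
      refine Subgroup.eq_of_le_of_card_ge hP0N ?_
      rw [hcard0, hj]
      refine Nat.pow_le_pow_right (by norm_num) ?_
      by_contra hne
      exact m.innerTwo ((pow_dvd_pow 2 (by omega)).trans (hj ▸ Subgroup.card_dvd_of_le inf_le_left))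
    have hnP : n ∈ m.P0 := by rw [hNP]; exact hnmem
    obtain ⟨c, hc, hce⟩ := hnP
    obtain ⟨-, ⟨v, hv, hve⟩⟩ := r.2
    have hh1 : h = m.x1 * (m.e0 (phi c) * v⁻¹ * l) := by
      have hk' : k = m.e0 c * (r.1)⁻¹ := by rw [hce]; simp [n]
      rw [hkl, hk', ← hve]
      simp only [MulEquiv.coe_toMonoidHom, MulAut.conj_apply]
      rw [← mul_assoc m.x1 (m.e0 (phi c) * v⁻¹), ← mul_assoc m.x1, ← m.e0_phi hc]
      group
    set u := m.e0 (phi c) * v⁻¹ * l with hu
    have huH : u ∈ m.inner :=
      m.inner.mul_mem (m.inner.mul_mem (m.e0_mem (phi_lt hc)) (m.inner.inv_mem hv)) hl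
    have hx1P : m.x1 ∈ m.P := ⟨64, by norm_num, by simp [eC, e1, m.e0_zero]⟩
    have hh2 : h * h ∈ m.inner := by
      have e : h * h = m.x1 * m.x1 * (u * u) := by
        calc h * h = h * (m.x1 * u) := by rw [← hh1]
          _ = m.x1 * h * u := by rw [← mul_assoc, hcomm _ hx1P]
          _ = m.x1 * (m.x1 * u) * u := by rw [← hh1]
          _ = _ := by group
      rw [e, m.x1_sq]
      exact m.inner.mul_mem (m.e0_mem sqX_lt) (m.inner.mul_mem huH huH)
    obtain ⟨j, hj⟩ := hodd
    refine hout ?_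
    have : h = (h * h) ^ (j + 1) := by
      rw [← sq, ← pow_mul, show 2 * (j + 1) = q + 1 by omega, pow_succ, hhq, one_mul]
    rw [this]
    exact m.inner.pow_mem hh2 _

end Model

end CfsgLib.LyTwo
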