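import Cfsg.Agent.Lib.LyTwo.Bridge
import Cfsg.Agent.Lib.Presented.Ly.Simple

/-!
The presented Lyons group with its representation of dimension 111: the 2-fusion system is simple.
-/
set_option autoImplicit false
set_option maxRecDepth 100000

namespace CfsgLib.LyTwo

open CfsgLib.Presented.Ly

/-- two stored forms of a matrix have the same entries -/
def sameEntries (x k : ℕ) : Bool :=
  (List.range 111).all fun i => (List.range 111).all fun j =>
    CfsgLib.Presented.MatFive.entry CfsgLib.Presented.LyMat.gens x i j % 5 == ent (Cert.node k) i j % 5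

theorem same_a : sameEntries 0 1 = true := by decide +kernel
theorem same_b : sameEntries 2 2 = true := by decide +kernel
theorem same_c : sameEntries 4 3 = true := by decide +kernel
theorem same_d : sameEntries 6 4 = true := by decide +kernel
theorem same_z : sameEntries 10 5 = true := by decide +kernel

theorem lyMat_eq {x k : ℕ} (h : sameEntries x k = true) : lyMat x = mat 111 111 (Cert.node k) := by
  ext i j
  have h1 := List.all_eq_true.mp (List.all_eq_true.mp h i.1 (List.mem_range.mpr i.2)) j.1 (List.mem_range.mpr j.2)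
  exact (ZMod.natCast_eq_natCast_iff' _ _ 5).mpr (beq_iff_eq.mp h1)

/-- the representation with values in matrices -/
noncomputable def rhoMat : Cfsg.Spor.Ly →* Matrix (Fin 111) (Fin 111) (ZMod 5) :=
  (Units.coeHom _).comp rho

theorem rhoMat_of {g : Cfsg.Spor.Ly.Gen} {x k : ℕ} (hs : sigma g = FreeGroup.of g)
    (hx : ((imgSix g : GL (Fin 111) (ZMod 5)) : Matrix (Fin 111) (Fin 111) (ZMod 5)) = lyMat x)
    (h : sameEntries x k = true) :
    rhoMat (mkLy (FreeGroup.of g)) = mat 111 111 (Cert.node k) := by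
  rw [rhoMat, MonoidHom.comp_apply, Units.coeHom_apply, rho_mk, imgRep, hs, FreeGroup.lift_apply_of, hx,
    lyMat_eq h]

theorem rhoMat_a : rhoMat (mkLy Cfsg.Spor.Ly.a) = mat 111 111 (Cert.node 1) := rhoMat_of rfl rfl same_a
theorem rhoMat_b : rhoMat (mkLy Cfsg.Spor.Ly.b) = mat 111 111 (Cert.node 2) := rhoMat_of rfl rfl same_b
theorem rhoMat_c : rhoMat (mkLy Cfsg.Spor.Ly.c) = mat 111 111 (Cert.node 3) := rhoMat_of rfl rfl same_c
theorem rhoMat_d : rhoMat (mkLy Cfsg.Spor.Ly.d) = mat 111 111 (Cert.node 4) := rhoMat_of rfl rfl same_d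
theorem rhoMat_z : rhoMat (mkLy Cfsg.Spor.Ly.z) = mat 111 111 (Cert.node 5) := rhoMat_of rfl rfl same_z

theorem node_one_ne : mat 111 111 (Cert.node 1) ≠ 1 := by
  have h2 : ((List.range 7).any fun i => (List.range 7).any fun j =>
      !(ent (Cert.node 1) i j % 5 == ent (Cert.node 0) i j % 5)) = true := by decide +kernel
  simp only [List.any_eq_true, List.mem_range, Bool.not_eq_true', beq_eq_false_iff_ne] at h2
  obtain ⟨i, hi, j, hj, hne⟩ := h2
  intro h
  rw [← mat_node_zero] at h
  exact hne ((ZMod.natCast_eq_natCast_iff' _ _ 5).mp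
    (congrFun (congrFun h ⟨i, by omega⟩) ⟨j, by omega⟩))

theorem rhoMat_injective : Function.Injective rhoMat := by
  have hs : IsSimpleGroup Cfsg.Spor.Ly := simple
  have hker : rho.ker = ⊥ :=
    ((MonoidHom.normal_ker rho).eq_bot_or_eq_top).resolve_right fun htop => by
      have h1 : rhoMat (mkLy Cfsg.Spor.Ly.a) = 1 := by
        have h2 : mkLy Cfsg.Spor.Ly.a ∈ rho.ker := by rw [htop]; exact Subgroup.mem_top _
        rw [rhoMat, MonoidHom.comp_apply, MonoidHom.mem_ker.mp h2, Units.coeHom_apply, Units.val_one]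
      rw [rhoMat_a] at h1
      exact node_one_ne h1
  exact Units.val_injective.comp ((MonoidHom.ker_eq_bot_iff rho).mp hker)

theorem isSimple_two_fusion {G : Type*} [Group G] [Finite G] (hG : Cfsg.Spor.IsoLy G) (S : Sylow 2 G) :
    (Cfsg.groupFusionSystem (S : Subgroup G)).IsSimple 2 :=
  isSimple_of_isoLy rhoMat rhoMat_injective rhoMat_a rhoMat_b rhoMat_c rhoMat_d rhoMat_z index_eq hG S

end CfsgLib.LyTwo
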