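import Cfsg.Agent.Lib.LyTwo.Elements
import Cfsg.Agent.Lib.LyTwo.CodedGroup
import Cfsg.Agent.Lib.LyTwo.CodeChecks.Small
import Cfsg.Agent.Lib.LyTwo.CodeChecks.SmallMat

/-!
The subgroup of order 64 of the simple subgroup, numbered by codes.
-/
set_option autoImplicit false
set_option maxRecDepth 100000

namespace CfsgLib.LyTwo

open Cert

/-- a product that has been checked -/
def prodKnown (i j k : ℕ) : Bool := facts.contains (i, j, k) || (steps.zipIdx 6).contains ((i, j), k)

/-- A finite set containing one and closed under products is a subgroup. -/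
def codedSubgroup {G : Type*} [Group G] [Finite G] (e : ℕ → G) (mul : ℕ → ℕ → ℕ) (n : ℕ) (h0 : 0 < n)
    (he0 : e 0 = 1) (hlt : ∀ c < n, ∀ d < n, mul c d < n)
    (hmul : ∀ c < n, ∀ d < n, e (mul c d) = e c * e d) : Subgroup G where
  carrier := {x | ∃ c < n, e c = x}
  one_mem' := ⟨0, h0, he0⟩
  mul_mem' := by
    rintro x y ⟨a, ha, rfl⟩ ⟨b, hb, rfl⟩
    exact ⟨mul a b, hlt a ha b hb, hmul a ha b hb⟩
  inv_mem' := by
    rintro x ⟨a, ha, rfl⟩
    have hp : ∀ k : ℕ, ∃ c < n, e c = e a ^ k := by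
      intro k
      induction k with
      | zero => exact ⟨0, h0, by rw [he0, pow_zero]⟩
      | succ k ih =>
        obtain ⟨c, hc, hce⟩ := ih
        exact ⟨mul c a, hlt c hc a ha, by rw [hmul c hc a ha, hce, pow_succ]⟩
    obtain ⟨c, hc, hce⟩ := hp (orderOf (e a) - 1)
    refine ⟨c, hc, ?_⟩
    rw [hce, eq_comm, inv_eq_iff_mul_eq_one, ← pow_succ', Nat.sub_add_cancel (orderOf_pos (e a)),
      pow_orderOf_eq_one]

theorem codedSubgroup_coded {G : Type*} [Group G] [Finite G] (e : ℕ → G) (mul : ℕ → ℕ → ℕ) (n : ℕ) (h0 : 0 < n)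
    (he0 : e 0 = 1) (hlt : ∀ c < n, ∀ d < n, mul c d < n)
    (hmul : ∀ c < n, ∀ d < n, e (mul c d) = e c * e d) (hinj : ∀ c < n, ∀ d < n, e c = e d → c = d) :
    Coded (codedSubgroup e mul n h0 he0 hlt hmul) n mul e :=
  ⟨fun c hc => ⟨c, hc, rfl⟩, fun _ hx => hx, hinj, hlt, hmul, h0, he0⟩

theorem residues_eq {A B : List ℕ} (h : mat 7 7 A = mat 7 7 B) : residues A = residues B := by
  simp only [residues]
  refine List.flatMap_congr fun i hi => List.map_congr_left fun j hj => ?_
  have := congrFun (congrFun h ⟨i, List.mem_range.mp hi⟩) ⟨j, List.mem_range.mp hj⟩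
  exact (ZMod.natCast_eq_natCast_iff' _ _ 5).mp this

theorem small_mat_ne {i k : ℕ} (hi : i < 64) (hk : k < 64)
    (h : mat 7 7 (small.getD i []) = mat 7 7 (small.getD k [])) : i = k := by
  have hd := List.all_eq_true.mp (List.all_eq_true.mp distinct_ok i (List.mem_range.mpr hi)) k
    (List.mem_range.mpr hk)
  rw [Bool.or_eq_true, decide_eq_true_eq] at hd
  refine hd.resolve_right fun hne => ?_
  rw [residues_eq h] at hne
  have hrefl : ∀ l : List ℕ, Presented.listEq l l = true := fun l => by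
    induction l with
    | nil => rfl
    | cons a l ih => simp [Presented.listEq, ih]
  rw [hrefl] at hne
  exact Bool.noConfusion hne

namespace Core

variable {G : Type*} [Group G] (m : Core G)

theorem el_prod {i j k : ℕ} (h : prodKnown i j k = true) : m.el i * m.el j = m.el k := by
  rw [prodKnown, Bool.or_eq_true, List.contains_iff_mem, List.contains_iff_mem] at h
  rcases h with h | h
  · exact m.el_mul h
  · have hb := List.all_eq_true.mp steps_bound _ h
    simp only [Bool.and_eq_true, decide_eq_true_eq] at hb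
    have hk : k < size := by
      have := (List.mem_zipIdx h).2.1
      rw [size]
      omega
    refine m.inj ?_
    rw [map_mul, m.rho_el (hb.1.trans hk), m.rho_el (hb.2.trans hk), m.rho_el hk]
    exact mulCheck_spec le_rfl (steps_ok _ h)

theorem el_zero : m.el 0 = 1 := m.el_leaf (by norm_num)

/-- a generator of the small group -/
def g0 (j : ℕ) : G := m.el (genN.getD j 0)

theorem genN_ok : ((List.range 4).all fun j => decide (genN.getD j 0 < size) &&
    innerNodes.getD (genN.getD j 0) false) = true := by decide +kernel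

theorem g0_mem {j : ℕ} (hj : j < 4) : m.g0 j ∈ m.inner := by
  have h := List.all_eq_true.mp genN_ok j (List.mem_range.mpr hj)
  rw [Bool.and_eq_true] at h
  exact m.el_mem_inner h.2

theorem cor_g0 {j : ℕ} (hj : j < 4) : m.cor (m.g0 j) = mat 7 7 (smallGen j) := by
  have h := List.all_eq_true.mp genN_ok j (List.mem_range.mpr hj)
  rw [Bool.and_eq_true, decide_eq_true_eq] at h
  have ht := top_ok
  simp only [Bool.and_eq_true] at ht
  exact m.cor_el h.1 (List.all_eq_true.mp ht.1.1.1 j (List.mem_range.mpr hj))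

/-- one step of the numbering -/
def pushSmall (acc : List G) (p : ℕ × ℕ) : List G := acc ++ [acc.getD p.1 1 * m.g0 p.2]

/-- the elements of the small group -/
def e0 (i : ℕ) : G := ((parT.drop 1).foldl m.pushSmall [1]).getD i 1

theorem pushSmall_spec : ∀ (st : List (ℕ × ℕ)) (acc : List G),
    (∀ k < acc.length, (st.foldl m.pushSmall acc).getD k 1 = acc.getD k 1) ∧
      ∀ i < st.length, (st.getD i (0, 0)).1 < acc.length + i →
        (st.foldl m.pushSmall acc).getD (acc.length + i) 1 =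
          (st.foldl m.pushSmall acc).getD (st.getD i (0, 0)).1 1 * m.g0 (st.getD i (0, 0)).2
  | [], acc => ⟨fun _ _ => rfl, fun i hi => absurd hi (Nat.not_lt_zero i)⟩
  | p :: st, acc => by
    obtain ⟨h1, h2⟩ := pushSmall_spec st (m.pushSmall acc p)
    have hl : (m.pushSmall acc p).length = acc.length + 1 := by simp [pushSmall]
    rw [List.foldl_cons]
    refine ⟨fun k hk => ?_, fun i hi hp => ?_⟩
    · rw [h1 k (by omega), pushSmall, List.getD_append _ _ _ _ hk]
    · cases i with
      | zero =>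
        simp only [List.getD_cons_zero] at hp ⊢
        rw [h1 _ (by omega), h1 _ (by omega), Nat.add_zero, pushSmall, List.getD_append_right _ _ _ _ le_rfl,
          List.getD_append _ _ _ _ (by omega)]
        simp
      | succ i =>
        simp only [List.getD_cons_succ, List.length_cons] at hp hi ⊢
        have := h2 i (by omega) (by omega)
        rw [hl] at this
        rw [show acc.length + (i + 1) = acc.length + 1 + i by omega]
        exact this

theorem e0_zero : m.e0 0 = 1 := (m.pushSmall_spec _ [1]).1 0 (by simp)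

theorem parT_spec {i : ℕ} (hi : i < 64) (h0 : i ≠ 0) : (parT.getD i (0, 0)).1 < i ∧ (parT.getD i (0, 0)).2 < 4 ∧
    stepC (parT.getD i (0, 0)).1 (parT.getD i (0, 0)).2 = i := by
  have h := List.all_eq_true.mp parT_ok i (List.mem_range.mpr hi)
  simp only [Bool.or_eq_true, Bool.and_eq_true, decide_eq_true_eq, beq_iff_eq] at h
  rcases h with h | ⟨⟨h1, h2⟩, h3⟩
  · exact absurd h h0
  · exact ⟨h1, h2, h3⟩

theorem e0_par {i : ℕ} (hi : i < 64) (h0 : i ≠ 0) :
    m.e0 i = m.e0 (parT.getD i (0, 0)).1 * m.g0 (parT.getD i (0, 0)).2 := by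
  obtain ⟨k, rfl⟩ := Nat.exists_eq_succ_of_ne_zero h0
  have hlen : parT.length = 64 := rfl
  have hg : (parT.drop 1).getD k (0, 0) = parT.getD (k + 1) (0, 0) := by
    simp [List.getD_eq_getElem?_getD, List.getElem?_drop, Nat.add_comm]
  have h := (m.pushSmall_spec (parT.drop 1) [1]).2 k (by rw [List.length_drop, hlen]; omega)
    (by
      rw [hg, List.length_singleton]
      have : (parT.getD (k + 1) (0, 0)).1 < k + 1 := (parT_spec hi h0).1
      omega)
  rw [hg, List.length_singleton, Nat.add_comm 1 k] at h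
  exact h

theorem e0_induction {p : ℕ → Prop} (h0 : p 0)
    (hs : ∀ q j i, q < 64 → j < 4 → i < 64 → stepC q j = i → i ≠ 0 →
      parT.getD i (0, 0) = (q, j) → p q → p i) : ∀ i < 64, p i := by
  intro i
  induction i using Nat.strong_induction_on with
  | _ i ih =>
    intro hi
    by_cases hi0 : i = 0
    · exact hi0 ▸ h0
    · obtain ⟨h1, h2, h3⟩ := parT_spec hi hi0
      exact hs _ _ i (h1.trans hi) h2 hi h3 hi0 rfl (ih _ h1 (h1.trans hi))

variable [Finite G]

theorem e0_mem {i : ℕ} (hi : i < 64) : m.e0 i ∈ m.inner := by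
  refine e0_induction (p := fun i => m.e0 i ∈ m.inner) (m.e0_zero ▸ m.inner.one_mem) ?_ i hi
  intro q j i _ hj hi _ hi0 hpar hq
  rw [m.e0_par hi hi0, hpar]
  exact m.inner.mul_mem hq (m.g0_mem hj)

theorem stepMat {i j : ℕ} (hi : i < 64) (hj : j < 4) :
    mat 7 7 (small.getD i []) * mat 7 7 (smallGen j) = mat 7 7 (small.getD (stepC i j) []) :=
  mulCheck_spec (by norm_num)
    (List.all_eq_true.mp (List.all_eq_true.mp stepMat_ok i (List.mem_range.mpr hi)) j (List.mem_range.mpr hj))

theorem cor_e0 {i : ℕ} (hi : i < 64) : m.cor (m.e0 i) = mat 7 7 (small.getD i []) := by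
  refine e0_induction (p := fun i => m.cor (m.e0 i) = mat 7 7 (small.getD i [])) ?_ ?_ i hi
  · have ht := top_ok
    simp only [Bool.and_eq_true] at ht
    rw [m.e0_zero, ← m.el_zero]
    exact m.cor_el (k := 0) (by rw [size_eq]; norm_num) ht.1.2
  · intro q j i hq hj hi hstep hi0 hpar ih
    rw [m.e0_par hi hi0, hpar, m.cor_mul (m.keeps_inner (m.g0_mem hj)), ih, m.cor_g0 hj, stepMat hq hj, hstep]

theorem corHom_injective : Function.Injective m.corHom := by
  have : IsSimpleGroup m.inner := m.simple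
  refine (MonoidHom.ker_eq_bot_iff _).mp (((MonoidHom.normal_ker m.corHom).eq_bot_or_eq_top).resolve_right ?_)
  intro htop
  have h1 : (⟨m.e0 1, m.e0_mem (by norm_num)⟩ : m.inner) ∈ m.corHom.ker := htop ▸ Subgroup.mem_top _
  rw [MonoidHom.mem_ker] at h1
  have happ : ∀ g : m.inner, m.corHom g = m.cor g.1 := fun _ => rfl
  have hone := map_one m.corHom
  rw [happ] at h1 hone
  have h2 : m.cor (m.e0 1) = m.cor (m.e0 0) := by
    rw [m.e0_zero]
    rw [OneMemClass.coe_one] at hone
    dsimp only at h1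
    rw [h1, hone]
  rw [m.cor_e0 (by norm_num), m.cor_e0 (by norm_num)] at h2
  exact absurd (small_mat_ne (by norm_num) (by norm_num) h2) (by norm_num)

theorem eq_of_cor {x y : G} (hx : x ∈ m.inner) (hy : y ∈ m.inner) (h : m.cor x = m.cor y) : x = y :=
  congrArg Subtype.val (m.corHom_injective (a₁ := ⟨x, hx⟩) (a₂ := ⟨y, hy⟩) h)

theorem stepC_lt {i j : ℕ} (hi : i < 64) (hj : j < 4) : stepC i j < 64 :=
  of_decide_eq_true
    (List.all_eq_true.mp (List.all_eq_true.mp stepC_lt_ok i (List.mem_range.mpr hi)) j (List.mem_range.mpr hj))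

theorem e0_step {i j : ℕ} (hi : i < 64) (hj : j < 4) : m.e0 i * m.g0 j = m.e0 (stepC i j) := by
  refine m.eq_of_cor (m.inner.mul_mem (m.e0_mem hi) (m.g0_mem hj)) (m.e0_mem (stepC_lt hi hj)) ?_
  rw [m.cor_mul (m.keeps_inner (m.g0_mem hj)), m.cor_e0 hi, m.cor_g0 hj, stepMat hi hj, m.cor_e0 (stepC_lt hi hj)]

theorem mul0_lt {i k : ℕ} (hi : i < 64) (hk : k < 64) : mul0 i k < 64 := by
  have h := List.all_eq_true.mp mul0_ok i (List.mem_range.mpr hi)
  rw [Bool.and_eq_true] at h
  have h2 := List.all_eq_true.mp h.2 k (List.mem_range.mpr hk)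
  rw [Bool.and_eq_true, decide_eq_true_eq] at h2
  exact h2.1

theorem e0_mul {i k : ℕ} (hi : i < 64) (hk : k < 64) : m.e0 (mul0 i k) = m.e0 i * m.e0 k := by
  have h := List.all_eq_true.mp mul0_ok i (List.mem_range.mpr hi)
  rw [Bool.and_eq_true, beq_iff_eq] at h
  refine e0_induction (p := fun k => m.e0 (mul0 i k) = m.e0 i * m.e0 k) (by rw [h.1, m.e0_zero, mul_one]) ?_ k hk
  intro q j k hq hj hk _ hk0 hpar ih
  have h2 := List.all_eq_true.mp h.2 k (List.mem_range.mpr hk)
  simp only [Bool.and_eq_true, Bool.or_eq_true, decide_eq_true_eq, beq_iff_eq] at h2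
  rw [h2.2.resolve_left hk0, hpar, ← m.e0_step (mul0_lt hi hq) hj, ih, m.e0_par hk hk0, hpar, mul_assoc]

theorem e0_inj {i k : ℕ} (hi : i < 64) (hk : k < 64) (h : m.e0 i = m.e0 k) : i = k := by
  refine small_mat_ne hi hk ?_
  rw [← m.cor_e0 hi, ← m.cor_e0 hk, h]

/-- the group of order 64 -/
def P0 : Subgroup G :=
  codedSubgroup m.e0 mul0 64 (by norm_num) m.e0_zero (fun _ hc _ hd => mul0_lt hc hd)
    (fun _ hc _ hd => m.e0_mul hc hd)

theorem P0_coded : Coded m.P0 64 mul0 m.e0 :=
  codedSubgroup_coded _ _ _ _ _ _ _ (fun _ hc _ hd => m.e0_inj hc hd)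

theorem P0_le : m.P0 ≤ m.inner := by
  rintro x ⟨c, hc, rfl⟩
  exact m.e0_mem hc

theorem nodeN_ok : (nodeN.all fun x => (x.1 == 0 && x.2 == 0) || (!(x.1 == 0) && decide (x.1 < 64) &&
    nodeN.any fun y => y.1 == (parT.getD x.1 (0, 0)).1 &&
      prodKnown y.2 (genN.getD (parT.getD x.1 (0, 0)).2 0) x.2)) = true := by decide +kernel

omit [Finite G] in
theorem e0_node {i k : ℕ} (h : (i, k) ∈ nodeN) : m.e0 i = m.el k := by
  induction i using Nat.strong_induction_on generalizing k with
  | _ i ih =>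
    have h1 := List.all_eq_true.mp nodeN_ok _ h
    simp only [Bool.or_eq_true, Bool.and_eq_true, beq_iff_eq, List.any_eq_true, decide_eq_true_eq,
      Bool.not_eq_true', beq_eq_false_iff_ne] at h1
    rcases h1 with ⟨rfl, rfl⟩ | ⟨⟨h0, hlt⟩, ⟨y, hy, hy1, hprod⟩⟩
    · rw [m.e0_zero, m.el_zero]
    · have hp := (parT_spec hlt h0).1
      rw [m.e0_par hlt h0, ← hy1, ih y.1 (hy1 ▸ hp) hy]
      exact m.el_prod hprod

attribute [irreducible] e0

end Core

end CfsgLib.LyTwo
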