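import Cfsg.Agent.Lib.LyTwo.SmallGroup
import Cfsg.Agent.Lib.LyTwo.CodeChecks.Whole

/-!
The subgroup of order 256 and its numbering.
-/
set_option autoImplicit false
set_option maxRecDepth 100000

namespace CfsgLib.LyTwo

open Cert

/-- the relations of the first outer element -/
def relX : Bool :=
  ((List.range 4).all fun j => nodeN.any fun y => y.1 == phiG.getD j 0 && (List.range Core.size).any fun l =>
    prodKnown (genN.getD j 0) 38 l && prodKnown 38 y.2 l) &&
  nodeN.any fun y => y.1 == sqX && prodKnown 38 38 y.2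

/-- the relations of the second outer element -/
def relY : Bool :=
  ((List.range 5).all fun j => nodeN.any fun y => y.1 == psiG.getD j 0 % 64 && (List.range Core.size).any fun w =>
    ((decide (psiG.getD j 0 < 64) && w == y.2) || (decide (64 ≤ psiG.getD j 0) && prodKnown 38 y.2 w)) &&
      (List.range Core.size).any fun l => prodKnown ((genN ++ [38]).getD j 0) 61 l && prodKnown 61 w l) &&
  prodKnown 61 61 0

/-- an inverse of the first outer element and the product with the second -/
def relSep : Bool := (List.range Core.size).any fun k => prodKnown k 38 0 && prodKnown k 61 87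

theorem relX_ok : relX = true := by decide +kernel
theorem relY_ok : relY = true := by decide +kernel
theorem relSep_ok : relSep = true := by decide +kernel

namespace Core

variable {G : Type*} [Group G] (m : Core G)

/-- the first outer element -/
def x1 : G := m.el 38

/-- the second outer element -/
def x2 : G := m.el 61

theorem g0_phi {j : ℕ} (hj : j < 4) : m.g0 j * m.x1 = m.x1 * m.e0 (phiG.getD j 0) := by
  have h := relX_ok
  simp only [relX, Bool.and_eq_true, List.all_eq_true, List.any_eq_true, List.mem_range, beq_iff_eq] at h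
  obtain ⟨y, hy, hy1, l, -, h1, h2⟩ := h.1 j hj
  rw [← hy1, m.e0_node hy, g0, x1, m.el_prod h1, m.el_prod h2]

theorem x1_sq : m.x1 * m.x1 = m.e0 sqX := by
  have h := relX_ok
  simp only [relX, Bool.and_eq_true, List.all_eq_true, List.any_eq_true, List.mem_range, beq_iff_eq] at h
  obtain ⟨y, hy, hy1, h1⟩ := h.2
  rw [← hy1, m.e0_node hy, x1, m.el_prod h1]

/-- the elements of the group of order 128 -/
def e1 (c : ℕ) : G := (if c / 64 = 0 then 1 else m.x1) * m.e0 (c % 64)

theorem e1_small {i : ℕ} (hi : i < 64) : m.e1 i = m.e0 i := by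
  rw [e1, if_pos (Nat.div_eq_of_lt hi), one_mul, Nat.mod_eq_of_lt hi]

theorem e1_big {i : ℕ} (hi : i < 64) : m.e1 (64 + i) = m.x1 * m.e0 i := by
  rw [e1, if_neg (by omega), show (64 + i) % 64 = i by omega]

theorem g0_psi {j : ℕ} (hj : j < 5) :
    (if j = 4 then m.x1 else m.g0 j) * m.x2 = m.x2 * m.e1 (psiG.getD j 0) := by
  have h := relY_ok
  simp only [relY, Bool.and_eq_true, List.all_eq_true, List.any_eq_true, List.mem_range, beq_iff_eq,
    Bool.or_eq_true, decide_eq_true_eq] at h
  obtain ⟨y, hy, hy1, w, -, hw, l, -, h1, h2⟩ := h.1 j hj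
  have hb := mulC_bounds
  simp only [Bool.and_eq_true, List.all_eq_true, decide_eq_true_eq] at hb
  have hlt : psiG.getD j 0 < 128 := by
    rcases Nat.lt_or_ge j psiG.length with hl | hl
    · rw [List.getD_eq_getElem _ _ hl]
      exact hb.2 _ (List.getElem_mem hl)
    · rw [List.getD_eq_default _ _ hl]
      norm_num
  have hgen : m.el ((genN ++ [38]).getD j 0) = if j = 4 then m.x1 else m.g0 j := by
    interval_cases j <;> rfl
  have hw1 : m.e1 (psiG.getD j 0) = m.el w := by
    rcases hw with ⟨hs, rfl⟩ | ⟨hs, hp⟩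
    · rw [e1_small m hs, ← m.e0_node hy, hy1, Nat.mod_eq_of_lt hs]
    · rw [e1, if_neg (by omega), ← hy1, m.e0_node hy, x1, m.el_prod hp]
  rw [← hgen, hw1, x2, m.el_prod h1, m.el_prod h2]

theorem x2_sq : m.x2 * m.x2 = 1 := by
  have h := relY_ok
  simp only [relY, Bool.and_eq_true] at h
  rw [x2, m.el_prod h.2, m.el_zero]

variable [Finite G]

theorem phi_lt {i : ℕ} (hi : i < 64) : phi i < 64 := by
  have h := phi_ok
  simp only [Bool.and_eq_true, List.all_eq_true, decide_eq_true_eq, List.mem_range] at h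
  exact (h.2 i hi).1

theorem e0_phi {i : ℕ} (hi : i < 64) : m.e0 i * m.x1 = m.x1 * m.e0 (phi i) := by
  have h := phi_ok
  simp only [Bool.and_eq_true, Bool.or_eq_true, List.all_eq_true, decide_eq_true_eq, List.mem_range,
    beq_iff_eq] at h
  refine e0_induction (p := fun i => m.e0 i * m.x1 = m.x1 * m.e0 (phi i))
    (by rw [h.1, m.e0_zero, one_mul, mul_one]) ?_ i hi
  intro q j i hq hj hi _ hi0 hpar ih
  have he := (h.2 i hi).2.resolve_left hi0
  rw [hpar] at he
  have hlen : phiG.getD j 0 < 64 := by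
    have hb := mulC_bounds
    simp only [Bool.and_eq_true, List.all_eq_true, decide_eq_true_eq] at hb
    rcases Nat.lt_or_ge j phiG.length with hl | hl
    · rw [List.getD_eq_getElem _ _ hl]
      exact hb.1.2 _ (List.getElem_mem hl)
    · rw [List.getD_eq_default _ _ hl]
      norm_num
  rw [m.e0_par hi hi0, hpar, he, m.e0_mul (phi_lt hq) hlen, mul_assoc, m.g0_phi hj, ← mul_assoc, ih, mul_assoc]

theorem sqX_lt : sqX < 64 := by decide

theorem mul1_lt {a b : ℕ} (ha : a < 128) (hb : b < 128) : mul1 a b < 128 := by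
  have h1 := mul0_lt (i := a % 64) (k := b % 64) (Nat.mod_lt _ (by norm_num)) (Nat.mod_lt _ (by norm_num))
  have h2 := mul0_lt (i := phi (a % 64)) (k := b % 64) (phi_lt (Nat.mod_lt _ (by norm_num))) (Nat.mod_lt _ (by norm_num))
  have h3 := mul0_lt sqX_lt h2
  rw [mul1]
  split_ifs <;> omega

theorem e1_mul {a b : ℕ} (ha : a < 128) (hb : b < 128) : m.e1 (mul1 a b) = m.e1 a * m.e1 b := by
  have hia : a % 64 < 64 := Nat.mod_lt _ (by norm_num)
  have hib : b % 64 < 64 := Nat.mod_lt _ (by norm_num)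
  have hj := mul0_lt (phi_lt hia) hib
  by_cases hb0 : b / 64 = 0
  · have h0 := mul0_lt hia hib
    rw [mul1, if_pos hb0]
    simp only [e1, hb0, if_true, one_mul]
    rw [show (a / 64 * 64 + mul0 (a % 64) (b % 64)) / 64 = a / 64 by omega,
      show (a / 64 * 64 + mul0 (a % 64) (b % 64)) % 64 = mul0 (a % 64) (b % 64) by omega, m.e0_mul hia hib,
      mul_assoc]
  · have key : ∀ u : G, u * m.e0 (a % 64) * (m.x1 * m.e0 (b % 64)) = u * m.x1 * m.e0 (mul0 (phi (a % 64)) (b % 64)) := by
      intro u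
      rw [m.e0_mul (phi_lt hia) hib, mul_assoc, ← mul_assoc (m.e0 (a % 64)), m.e0_phi hia]
      simp only [mul_assoc]
    have hB : m.e1 b = m.x1 * m.e0 (b % 64) := by rw [e1, if_neg hb0]
    rw [mul1, if_neg hb0, hB]
    by_cases ha0 : a / 64 = 0
    · rw [if_pos ha0, m.e1_big hj]
      simp only [e1, ha0, if_true]
      rw [key 1, one_mul]
    · rw [if_neg ha0, m.e1_small (mul0_lt sqX_lt hj), m.e0_mul sqX_lt hj, ← m.x1_sq]
      simp only [e1, ha0, if_false]
      rw [key m.x1]

theorem psi_lt {c : ℕ} (hc : c < 128) : psi c < 128 := by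
  have h := psi_ok
  simp only [Bool.and_eq_true, List.all_eq_true, decide_eq_true_eq, List.mem_range] at h
  exact h.2 c hc

theorem e0_psi {i : ℕ} (hi : i < 64) : m.e0 i * m.x2 = m.x2 * m.e1 (psi i) := by
  have h := psi_ok
  simp only [Bool.and_eq_true, Bool.or_eq_true, List.all_eq_true, decide_eq_true_eq, List.mem_range,
    beq_iff_eq] at h
  refine e0_induction (p := fun i => m.e0 i * m.x2 = m.x2 * m.e1 (psi i))
    (by rw [h.1.1.1, m.e1_small (by norm_num), m.e0_zero, one_mul, mul_one]) ?_ i hi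
  intro q j i hq hj hi _ hi0 hpar ih
  have he := ((h.1.2 i hi).resolve_left hi0).1
  rw [hpar] at he
  have hlen : psiG.getD j 0 < 128 := by
    have hb := mulC_bounds
    simp only [Bool.and_eq_true, List.all_eq_true, decide_eq_true_eq] at hb
    rcases Nat.lt_or_ge j psiG.length with hl | hl
    · rw [List.getD_eq_getElem _ _ hl]
      exact hb.2 _ (List.getElem_mem hl)
    · rw [List.getD_eq_default _ _ hl]
      norm_num
  have hg := m.g0_psi (j := j) (by omega)
  rw [if_neg (by omega)] at hg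
  rw [m.e0_par hi hi0, hpar, he, m.e1_mul (psi_lt (hq.trans (by norm_num))) hlen, mul_assoc, hg, ← mul_assoc, ih,
    mul_assoc]

theorem e1_psi {c : ℕ} (hc : c < 128) : m.e1 c * m.x2 = m.x2 * m.e1 (psi c) := by
  rcases Nat.lt_or_ge c 64 with hs | hs
  · rw [m.e1_small hs]
    exact m.e0_psi hs
  · obtain ⟨i, rfl⟩ := Nat.exists_eq_add_of_le hs
    have hi : i < 64 := by omega
    have h := psi_ok
    simp only [Bool.and_eq_true, Bool.or_eq_true, List.all_eq_true, decide_eq_true_eq, List.mem_range,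
      beq_iff_eq] at h
    have hg := m.g0_psi (j := 4) (by norm_num)
    rw [if_pos rfl, ← h.1.1.2] at hg
    rw [m.e1_big hi]
    by_cases hi0 : i = 0
    · subst hi0
      rw [m.e0_zero, mul_one]
      exact hg
    · rw [((h.1.2 i hi).resolve_left hi0).2, m.e1_mul (psi_lt (by norm_num)) (psi_lt (by omega)), mul_assoc,
        m.e0_psi hi, ← mul_assoc, hg, mul_assoc]

/-- the elements of the group of order 256 -/
def eC (c : ℕ) : G := (if c / 128 = 0 then 1 else m.x2) * m.e1 (c % 128)

omit [Finite G] in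
theorem eC_small {i : ℕ} (hi : i < 128) : m.eC i = m.e1 i := by
  rw [eC, if_pos (Nat.div_eq_of_lt hi), one_mul, Nat.mod_eq_of_lt hi]

theorem mulC_lt {a b : ℕ} (ha : a < 256) (hb : b < 256) : mulC a b < 256 := by
  have hia : a % 128 < 128 := Nat.mod_lt _ (by norm_num)
  have hib : b % 128 < 128 := Nat.mod_lt _ (by norm_num)
  have h1 := mul1_lt hia hib
  have h2 := mul1_lt (psi_lt hia) hib
  rw [mulC]
  split_ifs <;> omega

theorem eC_mul {a b : ℕ} (ha : a < 256) (hb : b < 256) : m.eC (mulC a b) = m.eC a * m.eC b := by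
  have hia : a % 128 < 128 := Nat.mod_lt _ (by norm_num)
  have hib : b % 128 < 128 := Nat.mod_lt _ (by norm_num)
  have hj := mul1_lt (psi_lt hia) hib
  by_cases hb0 : b / 128 = 0
  · have h0 := mul1_lt hia hib
    rw [mulC, if_pos hb0]
    simp only [eC, hb0, if_true, one_mul]
    rw [show (a / 128 * 128 + mul1 (a % 128) (b % 128)) / 128 = a / 128 by omega,
      show (a / 128 * 128 + mul1 (a % 128) (b % 128)) % 128 = mul1 (a % 128) (b % 128) by omega,
      m.e1_mul hia hib, mul_assoc]
  · have key : ∀ u : G, u * m.e1 (a % 128) * (m.x2 * m.e1 (b % 128)) =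
        u * m.x2 * m.e1 (mul1 (psi (a % 128)) (b % 128)) := by
      intro u
      rw [m.e1_mul (psi_lt hia) hib, mul_assoc, ← mul_assoc (m.e1 (a % 128)), m.e1_psi hia]
      simp only [mul_assoc]
    have hB : m.eC b = m.x2 * m.e1 (b % 128) := by rw [eC, if_neg hb0]
    rw [mulC, if_neg hb0, hB]
    by_cases ha0 : a / 128 = 0
    · rw [if_pos ha0]
      simp only [eC, ha0, if_true]
      rw [key 1, one_mul, if_neg (by omega), show (128 + mul1 (psi (a % 128)) (b % 128)) % 128 =
        mul1 (psi (a % 128)) (b % 128) by omega]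
    · rw [if_neg ha0, m.eC_small hj]
      simp only [eC, ha0, if_false]
      rw [key m.x2, m.x2_sq, one_mul]

theorem eC_zero : m.eC 0 = 1 := by
  rw [m.eC_small (by norm_num), m.e1_small (by norm_num), m.e0_zero]

omit [Finite G] in
theorem not_keeps {k : ℕ} (hk : k < size) (h : lowNonzero (node k) = true) : ¬ m.Keeps (m.el k) := by
  intro hkeep
  simp only [lowNonzero, List.any_eq_true, List.mem_range, Bool.not_eq_true', beq_eq_false_iff_ne] at h
  obtain ⟨i, hi, j, hj, hne⟩ := h
  have := hkeep ⟨i + 7, by omega⟩ ⟨j, by omega⟩ (by simp) (by simpa using hj)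
  rw [m.rho_el hk] at this
  refine hne ?_
  have h0 : ((ent (node k) (i + 7) j : ℕ) : ZMod 5) = 0 := this
  simpa using (ZMod.natCast_eq_natCast_iff' _ 0 5).mp (by rw [h0, Nat.cast_zero])

theorem outer_notMem : m.x1 ∉ m.inner ∧ m.x2 ∉ m.inner ∧ m.x1⁻¹ * m.x2 ∉ m.inner := by
  have h := sep_ok
  simp only [List.all_cons, List.all_nil, Bool.and_true, Bool.and_eq_true] at h
  have hs := relSep_ok
  simp only [relSep, List.any_eq_true, List.mem_range, Bool.and_eq_true] at hs
  obtain ⟨k, -, hk1, hk2⟩ := hs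
  refine ⟨fun hm => m.not_keeps (by rw [size_eq]; norm_num) h.1 (m.keeps_inner hm),
    fun hm => m.not_keeps (by rw [size_eq]; norm_num) h.2.1 (m.keeps_inner hm), fun hm => ?_⟩
  have hinv : m.el k = m.x1⁻¹ := eq_inv_of_mul_eq_one_left (by rw [x1, m.el_prod hk1, m.el_zero])
  rw [← hinv, x2, m.el_prod hk2] at hm
  exact m.not_keeps (by rw [size_eq]; norm_num) h.2.2 (m.keeps_inner hm)

theorem e1_inj {a b : ℕ} (ha : a < 128) (hb : b < 128) (h : m.e1 a = m.e1 b) : a = b := by
  have hia : a % 64 < 64 := Nat.mod_lt _ (by norm_num)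
  have hib : b % 64 < 64 := Nat.mod_lt _ (by norm_num)
  simp only [e1] at h
  have hsame : a / 64 = b / 64 → a = b := by
    intro hq
    rw [hq] at h
    have := m.e0_inj hia hib (mul_left_cancel h)
    omega
  have hx : ∀ i k, i < 64 → k < 64 → m.x1 * m.e0 i = m.e0 k → False := by
    intro i k hi hk he
    refine m.outer_notMem.1 ?_
    rw [eq_mul_inv_of_mul_eq he]
    exact m.inner.mul_mem (m.e0_mem hk) (m.inner.inv_mem (m.e0_mem hi))
  by_cases ha0 : a / 64 = 0 <;> by_cases hb0 : b / 64 = 0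
  · exact hsame (ha0.trans hb0.symm)
  · rw [if_pos ha0, if_neg hb0, one_mul] at h
    exact (hx _ _ hib hia h.symm).elim
  · rw [if_neg ha0, if_pos hb0, one_mul] at h
    exact (hx _ _ hia hib h).elim
  · exact hsame (by omega)

/-- the group of order 128 -/
def P1 : Subgroup G :=
  codedSubgroup m.e1 mul1 128 (by norm_num) (by rw [m.e1_small (by norm_num), m.e0_zero])
    (fun _ hc _ hd => mul1_lt hc hd) (fun _ hc _ hd => m.e1_mul hc hd)

theorem x2_notMem_P1 : m.x2 ∉ m.P1 := by
  rintro ⟨c, hc, hx⟩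
  rcases Nat.lt_or_ge c 64 with hs | hs
  · rw [m.e1_small hs] at hx
    exact m.outer_notMem.2.1 (hx ▸ m.e0_mem hs)
  · obtain ⟨i, rfl⟩ := Nat.exists_eq_add_of_le hs
    rw [m.e1_big (by omega)] at hx
    refine m.outer_notMem.2.2 ?_
    rw [← hx, inv_mul_cancel_left]
    exact m.e0_mem (by omega)

theorem eC_inj {a b : ℕ} (ha : a < 256) (hb : b < 256) (h : m.eC a = m.eC b) : a = b := by
  have hia : a % 128 < 128 := Nat.mod_lt _ (by norm_num)
  have hib : b % 128 < 128 := Nat.mod_lt _ (by norm_num)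
  simp only [eC] at h
  have hsame : a / 128 = b / 128 → a = b := by
    intro hq
    rw [hq] at h
    have := m.e1_inj hia hib (mul_left_cancel h)
    omega
  have hx : ∀ i k, i < 128 → k < 128 → m.x2 * m.e1 i = m.e1 k → False := by
    intro i k hi hk he
    refine m.x2_notMem_P1 ?_
    rw [eq_mul_inv_of_mul_eq he]
    exact m.P1.mul_mem ⟨k, hk, rfl⟩ (m.P1.inv_mem ⟨i, hi, rfl⟩)
  by_cases ha0 : a / 128 = 0 <;> by_cases hb0 : b / 128 = 0
  · exact hsame (ha0.trans hb0.symm)
  · rw [if_pos ha0, if_neg hb0, one_mul] at h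
    exact (hx _ _ hib hia h.symm).elim
  · rw [if_neg ha0, if_pos hb0, one_mul] at h
    exact (hx _ _ hia hib h).elim
  · exact hsame (by omega)

/-- the group of order 256 -/
def P : Subgroup G :=
  codedSubgroup m.eC mulC 256 (by norm_num) m.eC_zero (fun _ hc _ hd => mulC_lt hc hd)
    (fun _ hc _ hd => m.eC_mul hc hd)

theorem P_coded : Coded m.P 256 mulC m.eC :=
  codedSubgroup_coded _ _ _ _ _ _ _ (fun _ hc _ hd => m.eC_inj hc hd)

omit [Finite G] in
theorem eC_e0 {i : ℕ} (hi : i < 64) : m.eC i = m.e0 i := by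
  rw [m.eC_small (hi.trans (by norm_num)), m.e1_small hi]

theorem P0_le_P : m.P0 ≤ m.P := by
  rintro x ⟨c, hc, rfl⟩
  exact ⟨c, by omega, m.eC_e0 hc⟩

end Core

end CfsgLib.LyTwo
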